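import Mathlib
import Cfsg.Agent.OddOrderLocal.GLTwoOdd

/-!
# Peterfalvi (12.12): a group of odd order acting freely on an elementary abelian group of order `p²`
-/

set_option autoImplicit false

namespace Cfsg.Agent.OddOrderCharacters.PF12.BoundE

open scoped commutatorElement

/-- A free action of a finite group: the order of the group divides the cardinality of the set. -/
theorem card_dvd_of_free {E X : Type*} [Group E] [Finite E] [MulAction E X] [Finite X]
    (h : ∀ (z : E) (x : X), z • x = x → z = 1) : Nat.card E ∣ Nat.card X := by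
  classical
  have _ := Fintype.ofFinite E
  have _ := Fintype.ofFinite X
  have e := MulAction.selfEquivSigmaOrbits E X
  rw [Nat.card_congr e, Nat.card_sigma]
  refine Finset.dvd_sum fun ω _ => ?_
  have h1 : Nat.card (MulAction.orbit E (Quotient.out ω : X)) = Nat.card E := by
    refine (Nat.card_congr (Equiv.ofBijective
      (fun z : E => (⟨z • (Quotient.out ω : X), MulAction.mem_orbit _ z⟩ :
        MulAction.orbit E (Quotient.out ω : X))) ⟨?_, ?_⟩)).symm
    · intro z w hzw
      have h2 : z • (Quotient.out ω : X) = w • (Quotient.out ω : X) := congrArg Subtype.val hzw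
      have h3 : (w⁻¹ * z) • (Quotient.out ω : X) = Quotient.out ω := by
        rw [mul_smul, h2, ← mul_smul, inv_mul_cancel, one_smul]
      have h4 := h _ _ h3
      exact (inv_mul_eq_one.1 h4).symm
    · rintro ⟨y, z, rfl⟩
      exact ⟨z, rfl⟩
  rw [h1]

/-- A group of automorphisms acting without nontrivial fixed points on an invariant subgroup. -/
theorem card_dvd_card_sub_one {E V : Type*} [Group E] [Finite E] [Group V] [Finite V]
    (φ : E →* MulAut V) (hfree : ∀ z : E, z ≠ 1 → ∀ v : V, φ z v = v → v = 1)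
    (W : Subgroup V) (hW : ∀ z : E, ∀ w ∈ W, φ z w ∈ W) :
    Nat.card E ∣ Nat.card W - 1 := by
  classical
  let X := {w : V // w ∈ W ∧ w ≠ 1}
  let act : MulAction E X :=
    { smul := fun z w => ⟨φ z w.1, hW z _ w.2.1, fun h => w.2.2 ((φ z).map_eq_one_iff.1 h)⟩
      one_smul := fun w => Subtype.ext (by
        show φ 1 w.1 = w.1
        rw [map_one]; rfl)
      mul_smul := fun a b w => Subtype.ext (by
        show φ (a * b) w.1 = φ a (φ b w.1)
        rw [map_mul]; rfl) }
  have h1 : Nat.card E ∣ Nat.card X := by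
    refine card_dvd_of_free fun z w hzw => ?_
    by_contra hz
    exact w.2.2 (hfree z hz _ (congrArg Subtype.val hzw))
  have h2 : Nat.card X = Nat.card W - 1 := by
    have _ := Fintype.ofFinite W
    have _ := Fintype.ofFinite X
    let e : X ≃ {w : W // w ≠ 1} :=
      { toFun := fun w => ⟨⟨w.1, w.2.1⟩, fun h => w.2.2 (congrArg Subtype.val h)⟩
        invFun := fun w => ⟨w.1.1, w.1.2, fun h => w.2 (Subtype.ext h)⟩
        left_inv := fun _ => rfl
        right_inv := fun _ => rfl }
    rw [Nat.card_congr e, Nat.card_eq_fintype_card, Fintype.card_subtype_compl,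
      Fintype.card_subtype_eq, Nat.card_eq_fintype_card]
  rwa [h2] at h1

theorem two_mul_le_of_dvd {e n : ℕ} (he : Odd e) (hn : Even n) (hn0 : 0 < n) (h : e ∣ n) :
    2 * e ≤ n := by
  obtain ⟨m, rfl⟩ := h
  rcases m with _ | _ | m
  · simp at hn0
  · simp only [zero_add, mul_one] at hn
    exact absurd hn (Nat.not_even_iff_odd.2 he)
  · nlinarith

/-- A commutative group `E` of odd order acting freely on `V`, elementary abelian of order `p²`, such that no
nonidentity element of `E` normalizes the subgroup generated by `x ≠ 1`: then `|E| ≤ (p + 1) / 2`. -/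
theorem two_mul_card_le {E V : Type*} [Group E] [Finite E] [Group V] [Finite V] {p : ℕ}
    (hp : p.Prime) (hp2 : Odd p) (hE : Odd (Nat.card E)) (hEc : ∀ a b : E, a * b = b * a)
    (hVc : ∀ a b : V, a * b = b * a) (hVp : ∀ a : V, a ^ p = 1) (hV : Nat.card V = p ^ 2)
    (φ : E →* MulAut V) (hfree : ∀ z : E, z ≠ 1 → ∀ v : V, φ z v = v → v = 1)
    {x : V} (hx : ∀ z : E, z ≠ 1 → φ z x ∉ Subgroup.zpowers x) : 2 * Nat.card E ≤ p + 1 := by
  classical
  have hp3 : 3 ≤ p := by
    rcases hp.eq_two_or_odd' with h | h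
    · rw [h] at hp2; exact absurd hp2 (by decide)
    · have := hp.two_le
      rcases h with ⟨k, hk⟩
      omega
  have hpev : Even (p - 1) := by
    obtain ⟨k, hk⟩ := hp2
    exact ⟨k, by omega⟩
  have hpev' : Even (p + 1) := by
    obtain ⟨k, hk⟩ := hp2
    exact ⟨k + 1, by omega⟩
  by_cases hcase : ∃ (y : E) (v : V) (k : ℤ), y ≠ 1 ∧ v ≠ 1 ∧ φ y v = v ^ k
  · obtain ⟨y, v, k, hy, hv, hyv⟩ := hcase
    let W : Subgroup V :=
      { carrier := {u | φ y u = u ^ k}
        one_mem' := by simp
        mul_mem' := by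
          intro a b ha hb
          have hab : Commute a b := hVc a b
          show φ y (a * b) = (a * b) ^ k
          rw [map_mul, hab.mul_zpow, show φ y a = a ^ k from ha, show φ y b = b ^ k from hb]
        inv_mem' := by
          intro a ha
          show φ y a⁻¹ = a⁻¹ ^ k
          rw [map_inv, show φ y a = a ^ k from ha, inv_zpow] }
    have hWmem : ∀ u, u ∈ W ↔ φ y u = u ^ k := fun _ => Iff.rfl
    have hWφ : ∀ z : E, ∀ w ∈ W, φ z w ∈ W := by
      intro z w hw
      rw [hWmem] at hw ⊢
      have h1 : φ y (φ z w) = φ z (φ y w) := by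
        have := congrArg (fun f => φ f w) (hEc y z)
        simpa [map_mul] using this
      rw [h1, hw, map_zpow]
    have hdvd := card_dvd_card_sub_one φ hfree W hWφ
    have hWcard : Nat.card W = p := by
      have h1 : Nat.card W ∣ p ^ 2 := by rw [← hV]; exact Subgroup.card_subgroup_dvd_card W
      obtain ⟨i, hi, hi'⟩ := (Nat.dvd_prime_pow hp).1 h1
      interval_cases i
      · exfalso
        rw [pow_zero, Subgroup.card_eq_one] at hi'
        have : v ∈ W := hyv
        rw [hi', Subgroup.mem_bot] at this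
        exact hv this
      · rw [hi', pow_one]
      · exfalso
        rw [← hV] at hi'
        have h2 : W = ⊤ := Subgroup.eq_top_of_card_eq W hi'
        have h3 : x ∈ W := by rw [h2]; exact Subgroup.mem_top x
        rw [hWmem] at h3
        exact hx y hy (by rw [h3]; exact Subgroup.zpow_mem_zpowers x k)
    rw [hWcard] at hdvd
    have := two_mul_le_of_dvd hE hpev (by omega) hdvd
    omega
  · push Not at hcase
    -- free action of `E × (ZMod p)ˣ` on `V \ 1`
    have hfact : Fact p.Prime := ⟨hp⟩
    let _ : CommGroup V := { (inferInstance : Group V) with mul_comm := hVc }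
    let _ : Module (ZMod p) (Additive V) :=
      AddCommGroup.zmodModule (n := p) (fun a : Additive V => hVp a.toMul)
    let X := {w : Additive V // w ≠ 0}
    have hsm : ∀ (a : ZMod p) (w : Additive V), a • w = Additive.ofMul (w.toMul ^ (a.val : ℤ)) := by
      intro a w
      have h1 : a • w = (a.val : ℤ) • w := by
        have h2 : ((a.val : ℤ) : ZMod p) • w = (a.val : ℤ) • w := by
          rw [Int.cast_smul_eq_zsmul]
        rw [← h2, Int.cast_natCast, ZMod.natCast_zmod_val]
      rw [h1]
      rfl
    have hφs : ∀ (z : E) (a : ZMod p) (w : Additive V),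
        Additive.ofMul (φ z (a • w).toMul) = a • Additive.ofMul (φ z w.toMul) := by
      intro z a w
      rw [hsm, hsm]
      simp [map_zpow]
    let act : MulAction (E × (ZMod p)ˣ) X :=
      { smul := fun g w => ⟨(g.2 : ZMod p) • Additive.ofMul (φ g.1 w.1.toMul), fun h => by
          have h1 : (φ g.1 w.1.toMul) = 1 := by
            have h2 : ((g.2⁻¹ : (ZMod p)ˣ) : ZMod p) • ((g.2 : ZMod p) •
                Additive.ofMul (φ g.1 w.1.toMul)) = 0 := by rw [h, smul_zero]
            rw [smul_smul, Units.inv_mul, one_smul] at h2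
            exact h2
          exact w.2 ((φ g.1).map_eq_one_iff.1 h1)⟩
        one_smul := fun w => Subtype.ext (by
          show ((1 : (ZMod p)ˣ) : ZMod p) • Additive.ofMul (φ 1 w.1.toMul) = w.1
          rw [Units.val_one, one_smul, map_one]; rfl)
        mul_smul := fun a b w => Subtype.ext (by
          show ((a.2 * b.2 : (ZMod p)ˣ) : ZMod p) • Additive.ofMul (φ (a.1 * b.1) w.1.toMul) =
            (a.2 : ZMod p) • Additive.ofMul
              (φ a.1 ((b.2 : ZMod p) • Additive.ofMul (φ b.1 w.1.toMul)).toMul)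
          rw [hφs, smul_smul, map_mul, Units.val_mul]; rfl) }
    have h1 : Nat.card (E × (ZMod p)ˣ) ∣ Nat.card X := by
      refine card_dvd_of_free fun g w hgw => ?_
      have h2 : (g.2 : ZMod p) • Additive.ofMul (φ g.1 w.1.toMul) = w.1 := congrArg Subtype.val hgw
      have h3 : Additive.ofMul (φ g.1 w.1.toMul) = ((g.2⁻¹ : (ZMod p)ˣ) : ZMod p) • w.1 := by
        have h2' := congrArg (fun t => ((g.2⁻¹ : (ZMod p)ˣ) : ZMod p) • t) h2
        simp only [smul_smul, Units.inv_mul, one_smul] at h2'
        exact h2'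
      have h4 : g.1 = 1 := by
        by_contra hg
        have h5 := h3
        rw [hsm] at h5
        exact hcase g.1 w.1.toMul _ hg (fun h => w.2 h) (Additive.ofMul.injective h5)
      rw [h4, map_one] at h2
      have h6 : ((g.2 : ZMod p) - 1) • w.1 = 0 := by
        rw [sub_smul, one_smul]
        exact sub_eq_zero.2 h2
      have h7 : (g.2 : ZMod p) = 1 := by
        by_contra h8
        have h9 : ((g.2 : ZMod p) - 1) ≠ 0 := sub_ne_zero.2 h8
        exact w.2 ((smul_eq_zero.1 h6).resolve_left h9)
      exact Prod.ext h4 (Units.ext h7)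
    have hX : Nat.card X = p ^ 2 - 1 := by
      have _ := Fintype.ofFinite X
      have _ : Fintype (Additive V) := Fintype.ofFinite _
      rw [Nat.card_eq_fintype_card, Fintype.card_subtype_compl, Fintype.card_subtype_eq,
        ← Nat.card_eq_fintype_card, ← hV]
      rfl
    rw [Nat.card_prod, hX] at h1
    have hu : Nat.card (ZMod p)ˣ = p - 1 := by
      rw [Nat.card_eq_fintype_card, ZMod.card_units_eq_totient, Nat.totient_prime hp]
    rw [hu] at h1
    have h2 : p ^ 2 - 1 = (p + 1) * (p - 1) := by
      have := Nat.sq_sub_sq p 1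
      simpa using this
    rw [h2] at h1
    have h3 : Nat.card E ∣ p + 1 := Nat.dvd_of_mul_dvd_mul_right (by omega) h1
    exact two_mul_le_of_dvd hE hpev' (by omega) h3

/-- Same, for solvable `E` of order prime to `p`. -/
theorem two_mul_card_le_of_solvable {E V : Type*} [Group E] [Finite E] [Group V] [Finite V] {p : ℕ}
    (hp : p.Prime) (hp2 : Odd p) (hE : Odd (Nat.card E)) (hEs : Group.IsSolvable E)
    (hVc : ∀ a b : V, a * b = b * a) (hVp : ∀ a : V, a ^ p = 1) (hV : Nat.card V = p ^ 2)
    (φ : E →* MulAut V) (hfree : ∀ z : E, z ≠ 1 → ∀ v : V, φ z v = v → v = 1)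
    {x : V} (hx : ∀ z : E, z ≠ 1 → φ z x ∉ Subgroup.zpowers x) : 2 * Nat.card E ≤ p + 1 := by
  have hfact : Fact p.Prime := ⟨hp⟩
  have hVnt : ∃ v : V, v ≠ 1 := by
    by_contra h
    push Not at h
    have : Nat.card V = 1 := Nat.card_eq_one_iff_unique.2 ⟨⟨fun a b => by rw [h a, h b]⟩, ⟨1⟩⟩
    rw [hV] at this
    have h2 := Nat.one_lt_pow two_ne_zero hp.one_lt
    omega
  obtain ⟨v, hv⟩ := hVnt
  have hker : ∀ z : E, φ z = 1 → z = 1 := by
    intro z hz
    by_contra hz1
    exact hv (hfree z hz1 v (by rw [hz]; rfl))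
  have hcop : ¬ p ∣ Nat.card E := by
    intro hd
    have h1 := card_dvd_card_sub_one φ hfree ⊤ (fun _ _ _ => Subgroup.mem_top _)
    rw [Subgroup.card_top, hV] at h1
    have h2 : p ∣ p ^ 2 - 1 := hd.trans h1
    have h3 : p ∣ p ^ 2 := dvd_pow_self p two_ne_zero
    have h4 := (Nat.dvd_sub_iff_right (Nat.one_le_pow 2 p hp.pos) h3).1 h2
    exact hp.one_lt.ne' (Nat.dvd_one.1 h4)
  have hEc : ∀ a b : E, a * b = b * a := by
    intro a b
    have h1 : ⁅a, b⁆ ∈ commutator E := Subgroup.commutator_mem_commutator (Subgroup.mem_top a)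
      (Subgroup.mem_top b)
    have h2 := Cfsg.Agent.OddOrderLocal.GLTwoOdd.mulAut_pow_eq_one_of_mem_commutator hEs hE hVc hVp
      hV.le φ h1
    rw [← map_pow] at h2
    have h3 := hker _ h2
    have h4 : orderOf ⁅a, b⁆ ∣ p := orderOf_dvd_of_pow_eq_one h3
    have h5 : orderOf ⁅a, b⁆ = 1 := by
      rcases (Nat.dvd_prime hp).1 h4 with h | h
      · exact h
      · exfalso
        apply hcop
        rw [← h]
        exact orderOf_dvd_natCard _
    exact commutatorElement_eq_one_iff_mul_comm.1 (orderOf_eq_one_iff.1 h5)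
  exact two_mul_card_le hp hp2 hE hEc hVc hVp hV φ hfree hx

end Cfsg.Agent.OddOrderCharacters.PF12.BoundE
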