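import Cfsg.Agent.OddOrderCharacters.PF7Rho
import Cfsg.Agent.OddOrderCharacters.PF7IndBasic
import Cfsg.Agent.OddOrderCharacters.SystemRestrict
import Cfsg.Agent.OddOrderCharacters.CoherenceExt
import Cfsg.Agent.OddOrderCharacters.AbelianTwist
import Cfsg.Agent.S1501
import Cfsg.Agent.S1517

/-!
# Peterfalvi (12.5): the adjoint of the Dade map on functions orthogonal to a coherence system

`H` is normal in `L`, the Dade hypothesis holds for `(H \ {1}, L)`, `S` is the set of functions on `L`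
induced from the nonprincipal irreducible characters of `H` and `(S, τ, Rχ)` is a coherence system.
If `ψ` is a virtual character of `G` orthogonal to all `Rχ χ`, then `rho ψ` is constant on `H \ H'`, and
this constant is a rational integer.
-/

set_option autoImplicit false

open scoped ComplexConjugate
open Cfsg Cfsg.Agent.Characters.Core Cfsg.Agent.OddOrderCharacters.PFDefs
  Cfsg.Agent.OddOrderCharacters.PF7IndBasic Cfsg.Agent.OddOrderCharacters.VChar

namespace Cfsg.Agent.OddOrderCharacters.PF12.Const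

/-! ### Coherence systems: the image of a coherent set lies in the span of the `R χ` -/

section system

variable {L : Type*} [Group L] [Fintype L] {G : Type*} [Group G] [Fintype G]
  {S S' : Set (L → ℂ)} {τ ν : (L → ℂ) → (G → ℂ)} {R : (L → ℂ) → Finset (G → ℂ)}

/-- In a coherence system the image `ν χ` under a coherent isometry is the sum of a subset of `R χ`; in
particular it is its own projection on the span of `R χ`. -/
theorem nu_eq_proj (hS : IsCoherenceSystem S τ R) (hS' : S' ⊆ S)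
    (hconj : ∀ χ ∈ S', conjFun χ ∈ S') (hν : IsLinearIsometryOn (zspan S') ν)
    (hext : ∀ α ∈ zspanOn S' {1}ᶜ, ν α = τ α) {χ : L → ℂ} (hχ : χ ∈ S') :
    ν χ = ∑ α ∈ R χ, classInner (ν χ) α • α := by
  classical
  have hχS := hS' hχ
  have hgen : IsGeneralizedCharacter G (ν χ) := lin_gen hν (zspan_subset hχ)
  have hint : ∀ α ∈ R χ, ∃ n : ℤ, classInner (ν χ) α = n := fun α hα =>
    gen_inner hgen (hS.virtual χ hχS α hα)
  choose! c hc using hint
  have hperp : classInner χ (conjFun χ) = 0 :=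
    hS.orthogonal χ hχS _ (hS.conj_mem χ hχS) (hS.conj_ne χ hχS).symm
  -- the sum of the coefficients
  have hsum : ∑ α ∈ R χ, (c α : ℂ) = classInner χ χ := by
    have h1 : classInner (ν χ) (τ (χ - conjFun χ)) = classInner χ χ := by
      have h2 := SystemRestrict.sub_conjFun_mem hS hS' hχ (hconj χ hχ)
      rw [← hext _ h2.1]
      rw [hν.2.2.1 χ (zspan_subset hχ) _ h2.1.1, classInner_sub_right, hperp, sub_zero]
    rw [← h1, hS.sum_eq χ hχS, classInner_sum_right]
    exact Finset.sum_congr rfl fun α hα => (hc α hα).symm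
  have hnorm : classInner (ν χ) (ν χ) = classInner χ χ :=
    hν.2.2.1 χ (zspan_subset hχ) χ (zspan_subset hχ)
  have hbes := CoherenceExt.bessel (hS.orthonormal χ hχS) (ν χ)
  have hsq : ∑ α ∈ R χ, ‖classInner (ν χ) α‖ ^ 2 = ((∑ α ∈ R χ, (c α) ^ 2 : ℤ) : ℝ) := by
    push_cast
    refine Finset.sum_congr rfl fun α hα => ?_
    rw [hc α hα, Complex.norm_intCast, sq_abs]
  have hle : (∑ α ∈ R χ, c α : ℤ) ≤ ∑ α ∈ R χ, (c α) ^ 2 := by
    refine Finset.sum_le_sum fun α _ => ?_
    nlinarith [Int.le_self_sq (c α)]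
  have hnn : ((∑ α ∈ R χ, c α : ℤ) : ℝ) = (classInner χ χ).re := by
    rw [← hsum]
    push_cast
    simp
  have heq : ∑ α ∈ R χ, ‖classInner (ν χ) α‖ ^ 2 = (classInner χ χ).re := by
    apply le_antisymm
    · rw [← hnorm]; exact hbes
    · rw [hsq, ← hnn]
      exact_mod_cast hle
  have hz : classInner (CoherenceExt.proj (R χ) (ν χ) - ν χ)
      (CoherenceExt.proj (R χ) (ν χ) - ν χ) = 0 := by
    rw [CoherenceExt.ci_sub_proj (hS.orthonormal χ hχS), heq, hnorm]
    have h1 := classInner_self_im χ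
    apply Complex.ext
    · simp
    · simp [h1]
  have h2 := sub_eq_zero.1 (classInner_self_eq_zero hz)
  rw [CoherenceExt.proj_def] at h2
  exact h2.symm

/-- A function orthogonal to `R χ` is orthogonal to `ν χ`. -/
theorem inner_nu_eq_zero (hS : IsCoherenceSystem S τ R) (hS' : S' ⊆ S)
    (hconj : ∀ χ ∈ S', conjFun χ ∈ S') (hν : IsLinearIsometryOn (zspan S') ν)
    (hext : ∀ α ∈ zspanOn S' {1}ᶜ, ν α = τ α) {χ : L → ℂ} (hχ : χ ∈ S') {ψ : G → ℂ}
    (hψ : ∀ α ∈ R χ, classInner ψ α = 0) : classInner ψ (ν χ) = 0 := by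
  rw [nu_eq_proj hS hS' hconj hν hext hχ, classInner_sum_right]
  refine Finset.sum_eq_zero fun α hα => ?_
  rw [classInner_smul_right, hψ α hα, mul_zero]

/-- A function orthogonal to the `R χ` is orthogonal to `τ (φ - φ')` for members `φ`, `φ'` of `S` of the
same degree. -/
theorem inner_tau_sub_eq_zero (hS : IsCoherenceSystem S τ R) {φ φ' : L → ℂ} (hφ : φ ∈ S)
    (hφ' : φ' ∈ S) (hdeg : φ' 1 = φ 1) {ψ : G → ℂ}
    (hψ : ∀ α ∈ R φ, classInner ψ α = 0) (hψ' : ∀ α ∈ R φ', classInner ψ α = 0) :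
    classInner ψ (τ (φ - φ')) = 0 := by
  set S₁ : Set (L → ℂ) := {χ | χ ∈ S ∧ χ 1 = φ 1} with hS₁
  have hsub : S₁ ⊆ S := fun χ hχ => hχ.1
  have hreal : conj (φ 1) = φ 1 := by
    obtain ⟨n, hn⟩ := isCharacter_apply_one (hS.isCharacter φ hφ)
    rw [hn]; simp
  have hconj : ∀ χ ∈ S₁, conjFun χ ∈ S₁ := by
    rintro χ ⟨h1, h2⟩
    refine ⟨hS.conj_mem χ h1, ?_⟩
    show conj (χ 1) = φ 1
    rw [h2, hreal]
  have hφ₁ : φ ∈ S₁ := ⟨hφ, rfl⟩
  have hφ'₁ : φ' ∈ S₁ := ⟨hφ', hdeg⟩
  have hsys := SystemRestrict.isCoherenceSystem_subset hS hsub ⟨φ, hφ₁⟩ hconj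
  obtain ⟨-, ν, hν, hext⟩ := S1517.result S₁ τ R hsys (fun χ hχ χ' hχ' => hχ.2.trans hχ'.2.symm)
  have h1 : φ - φ' ∈ zspanOn S₁ {1}ᶜ := by
    rw [mem_zspanOn_one_iff]
    exact ⟨zspan_sub (zspan_subset hφ₁) (zspan_subset hφ'₁), by rw [Pi.sub_apply, hdeg, sub_self]⟩
  rw [← hext _ h1, span_sub hν (zspan_subset hφ₁) (zspan_subset hφ'₁), classInner_sub_right,
    inner_nu_eq_zero hS hsub hconj hν hext hφ₁ hψ, inner_nu_eq_zero hS hsub hconj hν hext hφ'₁ hψ',
    sub_zero]

end system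

/-! ### Class functions whose multiplicities depend only on the degree -/

section degree

variable {K : Type*} [Group K] [Fintype K]

/-- If the coefficients `a θ` depend only on the degree, `∑ a(θ) θ` vanishes off the derived subgroup. -/
theorem sum_eq_zero_of_degree [Fintype (IrrCharacter K)] (a : (K → ℂ) → ℂ)
    (ha : ∀ θ θ' : K → ℂ, IsIrrCharacter K θ → IsIrrCharacter K θ' → θ 1 = θ' 1 → a θ = a θ')
    {g : K} {l : K →* ℂˣ} (hl : l g ≠ 1) :
    ∑ θ : IrrCharacter K, a θ * (θ : K → ℂ) g = 0 := by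
  classical
  -- multiplication by `l` permutes the irreducible characters
  let f : (K →* ℂˣ) → IrrCharacter K → IrrCharacter K := fun m θ =>
    ⟨fun x => (m x : ℂ) * (θ : K → ℂ) x, AbelianTwist.isIrr_hom_mul m θ.2⟩
  have hf : ∀ m : K →* ℂˣ, ∀ θ, f m (f m⁻¹ θ) = θ := by
    intro m θ
    apply Subtype.ext
    funext x
    show (m x : ℂ) * ((m⁻¹ x : ℂˣ) * (θ : K → ℂ) x) = (θ : K → ℂ) x
    rw [← mul_assoc, MonoidHom.inv_apply, ← Units.val_mul, mul_inv_cancel, Units.val_one, one_mul]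
  let e : IrrCharacter K ≃ IrrCharacter K :=
    ⟨f l, f l⁻¹, fun θ => by have h := hf l⁻¹ θ; rw [inv_inv l] at h; exact h, hf l⟩
  have h1 : ∑ θ : IrrCharacter K, a θ * (θ : K → ℂ) g =
      (l g : ℂ) * ∑ θ : IrrCharacter K, a θ * (θ : K → ℂ) g := by
    conv_lhs => rw [← Equiv.sum_comp e]
    rw [Finset.mul_sum]
    refine Finset.sum_congr rfl fun θ _ => ?_
    have h2 : a (e θ : K → ℂ) = a (θ : K → ℂ) := by
      apply ha _ _ (e θ).2 θ.2
      show (l 1 : ℂ) * (θ : K → ℂ) 1 = (θ : K → ℂ) 1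
      rw [map_one, Units.val_one, one_mul]
    rw [h2]
    show a θ * ((l g : ℂ) * (θ : K → ℂ) g) = (l g : ℂ) * (a θ * (θ : K → ℂ) g)
    ring
  have h2 : (1 - (l g : ℂ)) * ∑ θ : IrrCharacter K, a θ * (θ : K → ℂ) g = 0 := by
    rw [sub_mul, one_mul, ← h1, sub_self]
  rcases mul_eq_zero.1 h2 with h3 | h3
  · exfalso
    apply hl
    ext
    rw [Units.val_one]
    exact (sub_eq_zero.1 h3).symm
  · exact h3

/-- A class function `f` whose multiplicities in the nonprincipal irreducible characters depend only on the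
degree is constant off the derived subgroup, with value `⟨f, 1⟩ - ⟨f, λ⟩`, `λ` any nonprincipal linear
character. -/
theorem apply_of_degree {f : K → ℂ} (hf : IsClassFunction K f)
    (ha : ∀ θ θ' : K → ℂ, IsIrrCharacter K θ → IsIrrCharacter K θ' → θ ≠ (fun _ => 1) →
      θ' ≠ (fun _ => 1) → θ 1 = θ' 1 → classInner f θ = classInner f θ')
    {l₀ : K →* ℂˣ} (hl₀ : l₀ ≠ 1) {g : K} {l : K →* ℂˣ} (hl : l g ≠ 1) :
    f g = classInner f (fun _ => 1) - classInner f (fun x => (l₀ x : ℂ)) := by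
  classical
  have hfin : Finite (IrrCharacter K) := finite_irr
  have : Fintype (IrrCharacter K) := Fintype.ofFinite _
  have hl₀irr : IsIrrCharacter K (fun x => (l₀ x : ℂ)) := by
    have := AbelianTwist.isIrr_hom_mul l₀ (isIrr_one (G := K))
    simpa using this
  have hl₀ne : (fun x => (l₀ x : ℂ)) ≠ (fun _ => (1 : ℂ)) := by
    intro h
    apply hl₀
    ext x
    have := congrFun h x
    simpa using this
  have h1irr : IsIrrCharacter K (fun _ => (1 : ℂ)) := isIrr_one
  set a : (K → ℂ) → ℂ := fun θ => if θ = (fun _ => 1) then classInner f (fun x => (l₀ x : ℂ))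
    else classInner f θ with hadef
  have key := sum_eq_zero_of_degree a (by
    intro θ θ' hθ hθ' hd
    by_cases h : θ = (fun _ => 1)
    · by_cases h' : θ' = (fun _ => 1)
      · rw [h, h']
      · rw [hadef]
        simp only [if_pos h, if_neg h']
        apply ha _ _ hl₀irr hθ' hl₀ne h'
        rw [← hd, h, map_one, Units.val_one]
    · by_cases h' : θ' = (fun _ => 1)
      · rw [hadef]
        simp only [if_neg h, if_pos h']
        apply ha _ _ hθ hl₀irr h hl₀ne
        rw [hd, h', map_one, Units.val_one]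
      · rw [hadef]
        simp only [if_neg h, if_neg h']
        exact ha _ _ hθ hθ' h h' hd) hl
  have hexp := congrFun (classFunction_eq_sum hf) g
  rw [Finset.sum_apply] at hexp
  have h2 : f g = ∑ χ : IrrCharacter K, (classInner f (χ : K → ℂ) - a χ) * (χ : K → ℂ) g := by
    rw [Finset.sum_congr rfl (fun χ _ => sub_mul _ _ _), Finset.sum_sub_distrib, key, sub_zero]
    exact hexp
  rw [h2, Finset.sum_eq_single (⟨fun _ => 1, h1irr⟩ : IrrCharacter K)]
  · rw [hadef]
    simp
  · intro χ _ hχ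
    have : (χ : K → ℂ) ≠ (fun _ => 1) := fun h => hχ (Subtype.ext h)
    rw [hadef]
    simp only [if_neg this, sub_self, zero_mul]
  · intro h
    exact absurd (Finset.mem_univ _) h

end degree

/-! ### Linear characters and the derived subgroup -/

/-- A linear character that does not vanish at an element outside the derived subgroup. -/
theorem exists_hom_ne_one {K : Type*} [Group K] [Finite K] {g : K} (hg : g ∉ commutator K) :
    ∃ l : K →* ℂˣ, l g ≠ 1 := by
  have h1 : (Abelianization.of g : Abelianization K) ≠ 1 := by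
    intro h
    apply hg
    rw [← Abelianization.ker_of]
    exact h
  have : Finite (Abelianization K) := Finite.of_surjective _ (QuotientGroup.mk'_surjective _)
  obtain ⟨m, hm⟩ := CommGroup.exists_apply_ne_one_of_hasEnoughRootsOfUnity
    (Abelianization K) ℂ h1
  exact ⟨m.comp Abelianization.of, hm⟩

section main

variable {G : Type*} [Group G] [Fintype G] {L H : Subgroup G} [Fintype ↥L] {R : G → Subgroup G}

omit [Fintype G] [Fintype ↥L] in
theorem not_mem_commutator (hle : H ≤ L) {k : G} (hk : k ∈ H) (hk' : k ∉ ⁅H, H⁆) :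
    (⟨⟨k, hle hk⟩, hk⟩ : ↥(H.subgroupOf L)) ∉ commutator ↥(H.subgroupOf L) := by
  intro h
  apply hk'
  have h1 : k ∈ (commutator ↥(H.subgroupOf L)).map (L.subtype.comp (H.subgroupOf L).subtype) :=
    ⟨_, h, rfl⟩
  rw [commutator_def, Subgroup.map_commutator] at h1
  refine Subgroup.commutator_mono ?_ ?_ h1 <;>
  · rintro _ ⟨y, -, rfl⟩
    exact y.2

/-- Peterfalvi (12.5), abstract form. -/
theorem rho_const (hI : IndHyp L H R) {τ : (↥L → ℂ) → (G → ℂ)}
    {Rχ : (↥L → ℂ) → Finset (G → ℂ)} (hS : IsCoherenceSystem (indS L H) τ Rχ)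
    (hτ : ∀ α ∈ zspanOn (indS L H) {1}ᶜ, τ α = dadeIsometry (sharp H) L R α)
    {ψ : G → ℂ} (hψ : IsGeneralizedCharacter G ψ)
    (horth : ∀ χ ∈ indS L H, ∀ α ∈ Rχ χ, classInner ψ α = 0) :
    ∃ b : ℤ, ∀ (k : G) (hk : k ∈ H), k ∉ ⁅H, H⁆ →
      rho (sharp H) L R ψ ⟨k, hI.le hk⟩ = b := by
  classical
  by_cases hH : ∃ k ∈ H, k ∉ ⁅H, H⁆
  swap
  · push Not at hH
    exact ⟨0, fun k hk hk' => absurd (hH k hk) hk'⟩
  obtain ⟨k₀, hk₀, hk₀'⟩ := hH
  set K := H.subgroupOf L with hK
  have hKn : K.Normal := subgroupOf_normal hI.normal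
  have hψc := gen_isClassFunction hψ
  set d := rho (sharp H) L R ψ with hd
  have hdc : IsClassFunction ↥L d := PF7Rho.rho_isClassFunction hI.dade hψc
  set f : ↥K → ℂ := fun k => d k with hfdef
  have hfc : IsClassFunction ↥K f := fun x y => hdc x y
  -- Frobenius reciprocity
  have hrec : ∀ θ : ↥K → ℂ, classInner f θ = classInner d (indFun K θ) := by
    intro θ
    rw [← classInner_conj_symm (indFun K θ) d, CharactersDeep.NormalInd.classInner_indFun K θ d hdc,
      classInner_conj_symm θ]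
  -- adjointness
  have hsupp : ∀ α : ↥L → ℂ, α ∈ zspan (indT L H) → α 1 = 0 → ∀ x : ↥L, (x : G) ∉ sharp H → α x = 0 := by
    intro α hα h1 x hx
    by_cases hxH : (x : G) ∈ H
    · have : x = 1 := by
        by_contra h
        exact hx ⟨hxH, fun h' => h (Subtype.ext h')⟩
      rw [this, h1]
    · refine zspan_induction (p := fun β : ↥L → ℂ => β x = 0) rfl ?_ ?_ ?_ hα
      · exact fun χ hχ => apply_of_notMem hI.le hI.normal hχ hxH
      · intro β _ γ _ hβ hγ
        rw [Pi.add_apply, hβ, hγ, add_zero]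
      · intro n β _ hβ
        rw [Pi.smul_apply, hβ, smul_zero]
  have hcls : ∀ α : ↥L → ℂ, α ∈ zspan (indT L H) → IsGeneralizedCharacter ↥L α := fun α hα =>
    VChar.gen_of_mem_zspan (fun χ hχ => gen_of_char (isCharacter_of_mem_indT hχ)) hα
  have hadj : ∀ α : ↥L → ℂ, α ∈ zspan (indT L H) → α 1 = 0 →
      classInner d α = classInner ψ (dadeIsometry (sharp H) L R α) := by
    intro α hα h1
    exact (PF7Rho.dade_reciprocity' hI.dade (gen_isClassFunction (hcls α hα)) (hsupp α hα h1)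
      hψc).symm
  -- multiplicities depend only on the degree
  have hdeg : ∀ θ θ' : ↥K → ℂ, IsIrrCharacter ↥K θ → IsIrrCharacter ↥K θ' → θ ≠ (fun _ => 1) →
      θ' ≠ (fun _ => 1) → θ 1 = θ' 1 → classInner f θ = classInner f θ' := by
    intro θ θ' hθ hθ' hθ1 hθ'1 hd1
    have hm : indFun K θ ∈ indS L H := ⟨θ, hθ, hθ1, fun a ha => by
      have : a = 1 := Subtype.ext (Subgroup.mem_bot.1 ha)
      rw [this], rfl⟩
    have hm' : indFun K θ' ∈ indS L H := ⟨θ', hθ', hθ'1, fun a ha => by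
      have : a = 1 := Subtype.ext (Subgroup.mem_bot.1 ha)
      rw [this], rfl⟩
    have h1 : indFun K θ' 1 = indFun K θ 1 := by
      rw [CharactersDeep.NormalInd.indFun_one, CharactersDeep.NormalInd.indFun_one, hd1]
    have hz : indFun K θ - indFun K θ' ∈ zspanOn (indS L H) {1}ᶜ := by
      rw [mem_zspanOn_one_iff]
      exact ⟨zspan_sub (zspan_subset hm) (zspan_subset hm'), by rw [Pi.sub_apply, h1, sub_self]⟩
    have h2 := inner_tau_sub_eq_zero hS hm hm' h1 (horth _ hm) (horth _ hm')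
    rw [hτ _ hz, ← hadj _ (zspan_mono indS_subset hz.1) (by rw [Pi.sub_apply, h1, sub_self]),
      classInner_sub_right, ← hrec, ← hrec] at h2
    exact sub_eq_zero.1 h2
  -- a nonprincipal linear character
  obtain ⟨l₀, hl₀⟩ := exists_hom_ne_one (not_mem_commutator hI.le hk₀ hk₀')
  have hl₀1 : l₀ ≠ 1 := by rintro rfl; exact hl₀ rfl
  have hval : ∀ (k : G) (hk : k ∈ H), k ∉ ⁅H, H⁆ → d ⟨k, hI.le hk⟩ =
      classInner f (fun _ => 1) - classInner f (fun x => (l₀ x : ℂ)) := by
    intro k hk hk'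
    obtain ⟨l, hl⟩ := exists_hom_ne_one (not_mem_commutator hI.le hk hk')
    exact apply_of_degree hfc hdeg hl₀1 hl
  -- the constant is an integer
  have hl₀irr : IsIrrCharacter ↥K (fun x => (l₀ x : ℂ)) := by
    have := AbelianTwist.isIrr_hom_mul l₀ (isIrr_one (G := ↥K))
    simpa using this
  have hmem1 : indFun K (fun _ => (1 : ℂ)) ∈ indT L H := ⟨_, isIrr_one, rfl⟩
  have hmem2 : indFun K (fun x => (l₀ x : ℂ)) ∈ indT L H := ⟨_, hl₀irr, rfl⟩
  have hone : (indFun K (fun _ => (1 : ℂ)) - indFun K (fun x => (l₀ x : ℂ))) 1 = 0 := by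
    rw [Pi.sub_apply, CharactersDeep.NormalInd.indFun_one, CharactersDeep.NormalInd.indFun_one,
      map_one, Units.val_one, sub_self]
  have hz := zspan_sub (zspan_subset hmem1) (zspan_subset hmem2)
  have hgen := S1501.result (sharp H) L R hI.dade _ (hcls _ hz) (hsupp _ hz hone)
  obtain ⟨b, hb⟩ := gen_inner hψ hgen
  refine ⟨b, fun k hk hk' => ?_⟩
  rw [hval k hk hk', hrec, hrec, ← classInner_sub_right, hadj _ hz hone, hb]

end main

end Cfsg.Agent.OddOrderCharacters.PF12.Const
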