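import Cfsg.Agent.OddOrderCharacters.TypeIConstant
import Cfsg.Agent.OddOrderCharacters.TypeExclusive
import Cfsg.Agent.OddOrderCharacters.PFDefs
import Cfsg.Agent.OddOrderCharacters.PF7IndBasic
import Cfsg.Agent.OddOrderCharacters.PF7Rho
import Cfsg.Agent.OddOrderCharacters.DadeBasic
import Cfsg.Agent.OddOrderLocal.FittingHall
import Cfsg.Agent.S1536

/-!
# From maximal subgroups of type I to the abstract hypotheses of `TypeISystem`

* `exists_typeFHyp`: a group of type F satisfies `TypeIVanish.TypeFHyp`;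
* `exists_typeIHyp`: with the Dade hypothesis for `(A₀(M), M, R)`, `TypeISystem.TypeIHyp`;
* restriction of the Dade hypothesis, the Dade map and `rho` from `A` to `K \ {1}`.
-/

set_option autoImplicit false
set_option linter.unusedSectionVars false

open scoped ComplexConjugate
open Cfsg
open Cfsg.Agent.Characters.Core
open Cfsg.Agent.OddOrderCharacters.DadeBasic
open Cfsg.Agent.OddOrderCharacters.TypeIVanish
open Cfsg.Agent.OddOrderCharacters.TypeISystem
open Cfsg.Agent.OddOrderCharacters.TypeIConstant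
open Cfsg.Agent.OddOrderCharacters.PFDefs
open Cfsg.Agent.OddOrderCharacters.PF7IndBasic

namespace Cfsg.Agent.OddOrderCharacters.PF12.InstBasic

universe u

section typeF

variable {M : Type u} [Group M] [Finite M]

/-- A group of type F satisfies `TypeFHyp`, with `N = M_F U₁`. -/
theorem exists_typeFHyp (hF : IsOfTypeF M) : ∃ N : Subgroup M, TypeFHyp (fittingHall M) N := by
  obtain ⟨-, -, hne, -, U, -, hU, ⟨U₁, hU₁U, -, hab, hU₁⟩, -⟩ := hF
  have hH := OddOrderLocal.FittingHall.fittingHall_coprime (G := M)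
  have hn : (fittingHall M).Normal := fittingHall_normal M
  have hmem : ∀ x ∈ fittingHall M ⊔ U₁, ∃ a ∈ fittingHall M, ∃ u ∈ U₁, x = a * u := by
    intro x hx
    obtain ⟨a, ha, u, hu, h⟩ := Subgroup.mem_sup_of_normal_left.1 hx
    exact ⟨a, ha, u, hu, h.symm⟩
  refine ⟨fittingHall M ⊔ U₁, hn, hne, hH, le_sup_left, ?_, ?_⟩
  · intro x hx y hy
    obtain ⟨a, ha, u, hu, rfl⟩ := hmem x hx
    obtain ⟨b, hb, v, hv, rfl⟩ := hmem y hy
    have huv : u * v = v * u := by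
      have := hab.is_comm.comm ⟨u, hu⟩ ⟨v, hv⟩
      exact congrArg Subtype.val this
    have e : a * u * (b * v) * (a * u)⁻¹ * (b * v)⁻¹ =
        a * (u * b * u⁻¹) * ((u * v * u⁻¹) * a⁻¹ * (u * v * u⁻¹)⁻¹) * (u * v * u⁻¹ * v⁻¹) * b⁻¹ := by
      group
    rw [e]
    refine mul_mem (mul_mem (mul_mem (mul_mem ha (hn.conj_mem b hb u))
      (hn.conj_mem _ (inv_mem ha) _)) ?_) (inv_mem hb)
    have : u * v * u⁻¹ * v⁻¹ = 1 := by rw [huv]; group
    rw [this]
    exact one_mem _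
  · intro x hxN h hh hc
    by_contra hh1
    apply hxN
    obtain ⟨θ, hθ, hθ1, hfix⟩ := (S1536.result (fittingHall M) hH x).mpr ⟨h, hh, hh1, hc⟩
    obtain ⟨⟨a, u⟩, hau⟩ := hU.2 x
    have hau' : (a : M) * (u : M) = x := hau
    have hcf := isIrr_isClassFunction hθ
    have hfu : (fun k : fittingHall M => θ ⟨(u : M) * k * (u : M)⁻¹, hn.conj_mem k k.2 u⟩) = θ := by
      funext k
      have h2 := hcf ⟨(u : M) * k * (u : M)⁻¹, hn.conj_mem k k.2 u⟩ a
      have h3 := congrFun hfix k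
      rw [← h2]
      refine Eq.trans ?_ h3
      congr 1
      apply Subtype.ext
      show (a : M) * (u * k * (u : M)⁻¹) * (a : M)⁻¹ = x * k * x⁻¹
      rw [← hau']
      group
    obtain ⟨k, hk, hk1, hkc⟩ := (S1536.result (fittingHall M) hH (u : M)).mp ⟨θ, hθ, hθ1, hfu⟩
    have hu : (u : M) ∈ U₁ :=
      hU₁ k hk hk1 ⟨u.2, Subgroup.mem_centralizer_singleton_iff.mpr hkc⟩
    rw [← hau']
    exact Subgroup.mul_mem_sup a.2 hu

end typeF

section typeI

variable {G : Type u} [Group G] [Finite G] {M : Subgroup G}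

theorem mem_fittingHallOf {x : ↥M} : (x : G) ∈ fittingHallOf M ↔ x ∈ fittingHall ↥M := by
  constructor
  · rintro ⟨y, hy, hyx⟩
    have : y = x := Subtype.ext hyx
    rwa [← this]
  · intro h
    exact ⟨x, h, rfl⟩

/-- The abstract type I hypothesis for a maximal subgroup of type I (only: type F and not type P). -/
theorem exists_typeIHyp_of_typeF (hF : IsOfTypeF ↥M) (hP : ¬ IsOfTypeP M) (hodd : Odd (Nat.card G))
    (hD : DadeHypothesis (typeA0' M) M (supportR M)) :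
    ∃ N : Subgroup ↥M, TypeIHyp (typeA0' M) M (fittingHall ↥M) N (supportR M) := by
  obtain ⟨N, hN⟩ := exists_typeFHyp hF
  refine ⟨N, hD, Odd.of_dvd_nat hodd (Subgroup.card_subgroup_dvd_card M), hN, fun x => ?_⟩
  rw [typeA0'_of_not_typeP hP, typeA'_of_not_typeP hP]
  constructor
  · rintro ⟨-, h1, y, hy, hy1, hc⟩
    obtain ⟨z, hz, rfl⟩ := hy
    refine ⟨fun h => h1 (by rw [h]; rfl), z, hz, fun h => hy1 (by rw [h]; rfl), ?_⟩
    exact Subtype.ext hc
  · rintro ⟨h1, y, hy, hy1, hc⟩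
    refine ⟨x.2, fun h => h1 (Subtype.ext h), y, ⟨y, hy, rfl⟩, fun h => hy1 (Subtype.ext h), ?_⟩
    exact congrArg Subtype.val hc

theorem exists_typeIHyp (hI : IsOfTypeI' M) (hodd : Odd (Nat.card G))
    (hD : DadeHypothesis (typeA0' M) M (supportR M)) :
    ∃ N : Subgroup ↥M, TypeIHyp (typeA0' M) M (fittingHall ↥M) N (supportR M) :=
  exists_typeIHyp_of_typeF hI.1 (TypeExclusive.not_isOfTypeP_of_isOfTypeF hI.1) hodd hD

end typeI

section sharp

variable {G : Type u} [Group G] {A : Set G} {L K : Subgroup G} {R : G → Subgroup G}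

/-- The Dade hypothesis passes to an `L`-invariant subset. -/
theorem dade_restrict {B : Set G} (hD : DadeHypothesis A L R) (hB : B ⊆ A)
    (hn : ∀ x ∈ L, ∀ b ∈ B, x * b * x⁻¹ ∈ B) : DadeHypothesis B L R where
  one_not_mem := fun h1 => hD.one_not_mem (hB h1)
  subset := hB.trans hD.subset
  conj_mem := hn
  fusion := fun a ha g hg => hD.fusion a (hB ha) g (hB hg)
  le_centralizer := fun a ha => hD.le_centralizer a (hB ha)
  conj_mem_H := fun a ha => hD.conj_mem_H a (hB ha)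
  inf_eq_bot := fun a ha => hD.inf_eq_bot a (hB ha)
  sup_eq := fun a ha => hD.sup_eq a (hB ha)
  coprime := fun a ha b hb => hD.coprime a (hB ha) b (hB hb)

theorem dadeSupport_mono {B : Set G} (hB : B ⊆ A) : dadeSupport B R ⊆ dadeSupport A R := by
  rintro g ⟨a, ha, h⟩
  exact ⟨a, hB ha, h⟩

/-- The Dade maps for `B ⊆ A` agree on the class functions vanishing off `B`. -/
theorem dadeIsometry_restrict [Finite G] {B : Set G} (hD : DadeHypothesis A L R) (hB : B ⊆ A)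
    (hn : ∀ x ∈ L, ∀ b ∈ B, x * b * x⁻¹ ∈ B) {α : ↥L → ℂ} (hα : IsClassFunction ↥L α)
    (hαB : ∀ x : ↥L, (x : G) ∉ B → α x = 0) : dadeIsometry B L R α = dadeIsometry A L R α := by
  have h' := dade_restrict hD hB hn
  funext g
  by_cases hg : g ∈ Supp B R
  · obtain ⟨a, ha, u, hu, x, hx⟩ := hg
    rw [dadeIsometry_apply h' hα ⟨a, h'.subset ha⟩ ha hu hx,
      dadeIsometry_apply hD hα ⟨a, h'.subset ha⟩ (hB ha) hu hx]
  · rw [dadeIsometry_eq_zero hg]
    by_cases hg0 : g ∈ Supp A R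
    · obtain ⟨a, ha, u, hu, x, hx⟩ := hg0
      rw [dadeIsometry_apply hD hα ⟨a, hD.subset ha⟩ ha hu hx, hαB]
      exact fun haA => hg ⟨a, haA, u, hu, x, hx⟩
    · rw [dadeIsometry_eq_zero hg0]

theorem rho_restrict {B : Set G} (hB : B ⊆ A) (ψ : G → ℂ) {x : ↥L} (hx : (x : G) ∈ B) :
    rho B L R ψ x = rho A L R ψ x := by
  rw [PF7Rho.rho_mem ψ hx, PF7Rho.rho_mem ψ (hB hx)]

variable {H N : Subgroup ↥L}

theorem mem_sharp {x : G} : x ∈ sharp K ↔ x ∈ K ∧ x ≠ 1 := Iff.rfl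

theorem sharp_subset (h : TypeIHyp A L H N R) : sharp (H.map L.subtype) ⊆ A := by
  rintro x ⟨⟨y, hy, rfl⟩, hx1⟩
  exact (h.mem_A y).2 ⟨fun h1 => hx1 (by rw [h1]; rfl), y, hy, fun h1 => hx1 (by rw [h1]; rfl), rfl⟩

theorem sharp_conj_mem (h : TypeIHyp A L H N R) :
    ∀ x ∈ L, ∀ b ∈ sharp (H.map L.subtype), x * b * x⁻¹ ∈ sharp (H.map L.subtype) := by
  have hn := h.typeF.normal
  rintro x hx b ⟨⟨y, hy, rfl⟩, hb1⟩
  refine ⟨⟨⟨x, hx⟩ * y * ⟨x, hx⟩⁻¹, hn.conj_mem y hy _, rfl⟩, ?_⟩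
  intro h1
  rw [Set.mem_singleton_iff] at h1
  apply hb1
  rw [Set.mem_singleton_iff]
  have h2 : (y : G) = x⁻¹ * (x * y * x⁻¹) * x := by group
  show (y : G) = 1
  rw [h2]
  have h3 : x * (y : G) * x⁻¹ = 1 := h1
  rw [h3]
  group

theorem dade_sharp (h : TypeIHyp A L H N R) : DadeHypothesis (sharp (H.map L.subtype)) L R :=
  dade_restrict h.dade (sharp_subset h) (sharp_conj_mem h)

theorem dadeIsometry_sharp [Finite G] (h : TypeIHyp A L H N R) {α : ↥L → ℂ}
    (hα : IsClassFunction ↥L α)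
    (hαB : ∀ x : ↥L, (x : G) ∉ sharp (H.map L.subtype) → α x = 0) :
    dadeIsometry (sharp (H.map L.subtype)) L R α = dadeIsometry A L R α :=
  dadeIsometry_restrict h.dade (sharp_subset h) (sharp_conj_mem h) hα hαB

theorem rho_sharp (h : TypeIHyp A L H N R) (ψ : G → ℂ) {x : ↥L}
    (hx : (x : G) ∈ sharp (H.map L.subtype)) :
    rho (sharp (H.map L.subtype)) L R ψ x = rho A L R ψ x :=
  rho_restrict (sharp_subset h) ψ hx

theorem map_commutator_mem {x : ↥L} (hx : x ∈ H) :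
    (⟨x, hx⟩ : ↥H) ∈ commutator ↥H ↔ (x : G) ∈ ⁅H.map L.subtype, H.map L.subtype⁆ := by
  have h1 : (commutator ↥H).map (L.subtype.comp H.subtype) =
      ⁅H.map L.subtype, H.map L.subtype⁆ := by
    rw [commutator_def, Subgroup.map_commutator]
    have h2 : (⊤ : Subgroup ↥H).map (L.subtype.comp H.subtype) = H.map L.subtype := by
      rw [← Subgroup.map_map, ← MonoidHom.range_eq_map, Subgroup.range_subtype]
    rw [h2]
  rw [← h1]
  constructor
  · intro h
    exact ⟨_, h, rfl⟩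
  · rintro ⟨y, hy, hyx⟩
    have h2 : y = ⟨x, hx⟩ := Subtype.ext (Subtype.ext hyx)
    rwa [← h2]

/-- (12.5) in the form used in the final argument. -/
theorem exists_rho_sharp_eq [Fintype G] [Fintype ↥L] (h : TypeIHyp A L H N R) {ψ : G → ℂ}
    (hgen : IsGeneralizedCharacter G ψ) (hψ : OrthI A L H R ψ) :
    ∃ b : ℤ, ∀ (k : G) (hk : k ∈ H.map L.subtype), k ∉ ⁅H.map L.subtype, H.map L.subtype⁆ →
      rho (sharp (H.map L.subtype)) L R ψ
        ⟨k, (Subgroup.map_subtype_le H) hk⟩ = b := by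
  obtain ⟨b, hb⟩ := exists_rho_eq h hgen hψ
  refine ⟨b, ?_⟩
  intro k hk hk'
  obtain ⟨y, hy, hyk⟩ := id hk
  have hyk' : (y : G) = k := hyk
  have h1 : (⟨y, hy⟩ : ↥H) ∉ commutator ↥H := by
    rw [map_commutator_mem hy, hyk']
    exact hk'
  have h2 := hb ⟨y, hy⟩ h1
  have h3 : (⟨k, (Subgroup.map_subtype_le H) hk⟩ : ↥L) = y := Subtype.ext hyk'.symm
  have h4 : k ≠ 1 := by
    rintro rfl
    exact hk' (one_mem _)
  rw [rho_sharp h ψ (x := ⟨k, (Subgroup.map_subtype_le H) hk⟩) ⟨hk, h4⟩, h3]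
  exact h2

/-- (12.4) in the form used in the final argument. -/
theorem ortho_constant' [Fintype G] [Fintype ↥L] (h : TypeIHyp A L H N R)
    (hR : ∀ x ∈ A, x ∉ H.map L.subtype → R x = ⊥) {ψ : G → ℂ} (hcl : IsClassFunction G ψ)
    (hψ : OrthI A L H R ψ) {x k : G} (hxL : x ∈ L) (hx : x ∉ H.map L.subtype)
    (hk : k ∈ H.map L.subtype) : ψ (x * k) = ψ x := by
  obtain ⟨y, hy, rfl⟩ := hk
  have h1 : (⟨x, hxL⟩ : ↥L) ∉ H := fun h' => hx ⟨_, h', rfl⟩
  refine ortho_constant h ?_ hcl hψ (x := ⟨x, hxL⟩) h1 hy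
  intro z hz hzH
  refine hR z hz ?_
  rintro ⟨w, hw, hwz⟩
  exact hzH ((Subtype.ext hwz : w = z) ▸ hw)

end sharp

end Cfsg.Agent.OddOrderCharacters.PF12.InstBasic
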