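import Cfsg.Agent.OddOrderCharacters.PF12.Defs
import Cfsg.Agent.OddOrderCharacters.PF12.InstBasic
import Cfsg.Agent.OddOrderCharacters.PF12.Ortho
import Cfsg.Agent.OddOrderCharacters.PF12.Final
import Cfsg.Agent.OddOrderCharacters.PF7Pair
import Cfsg.Agent.OddOrderCharacters.FrobInd
import Cfsg.Agent.OddOrderCharacters.InducedSum

/-!
# Peterfalvi (12.13)–(12.16): the contradiction from the data (12.8)–(12.12)

* `indHyp`, `exists_cohHyp`: a Frobenius maximal subgroup of type I with coherent `S(L)` satisfies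
  the hypotheses of (7.6), (7.8) with `H = L_F`;
* `false_of_charHyp`: the final contradiction of section 12.
-/

set_option autoImplicit false

open scoped ComplexConjugate
open Cfsg Cfsg.Agent.Characters.Core Cfsg.Agent.OddOrderCharacters.VChar
open Cfsg.Agent.OddOrderCharacters.PFDefs Cfsg.Agent.OddOrderCharacters.PF12.Defs
open Cfsg.Agent.OddOrderCharacters.PF7IndBasic (sharp indS IndHyp)
open Cfsg.Agent.OddOrderCharacters.PF7Ind (CohHyp)

namespace Cfsg.Agent.OddOrderCharacters.PF12.FinalChar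

universe u

variable {G : Type u} [Group G]

theorem sharpF_eq (M : Subgroup G) : sharpF M = sharp (fittingHallOf M) := rfl

section pack

variable [Finite G]

/-- The hypothesis (7.6) for `H = L_F`. -/
theorem indHyp {L : Subgroup G} (hodd : Odd (Nat.card G)) (hL : TypeIHyp L) :
    IndHyp L (fittingHallOf L) (supportR L) := by
  obtain ⟨N, hN⟩ := InstBasic.exists_typeIHyp_of_typeF hL.typeF hL.not_typeP hodd hL.dade
  have hn := hN.typeF.normal
  refine ⟨OddOrderLocal.FittingHall.fittingHallOf_le L, ?_, ?_, InstBasic.dade_sharp hN⟩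
  · rintro x hx _ ⟨y, hy, rfl⟩
    exact ⟨⟨x, hx⟩ * y * ⟨x, hx⟩⁻¹, hn.conj_mem y hy _, rfl⟩
  · intro h
    apply hN.typeF.ne_bot
    have h1 : (fittingHallOf L).subgroupOf L = ⊥ := by
      rw [h]
      exact Subgroup.bot_subgroupOf L
    rwa [OddOrderLocal.FittingHall.fittingHallOf_subgroupOf] at h1

omit [Finite G] in
theorem centralizer_le_of_frobF {L : Subgroup G} (h : FrobF L) :
    ∀ n ∈ fittingHall ↥L, n ≠ 1 → Subgroup.centralizer ({n} : Set ↥L) ≤ fittingHall ↥L := by
  intro n hn hn1 x hx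
  rw [Subgroup.mem_centralizer_singleton_iff] at hx
  have h1 : (x : G) ∈ L ⊓ Subgroup.centralizer ({(n : G)} : Set G) := by
    exact Subgroup.mem_inf.2 ⟨x.2, Subgroup.mem_centralizer_singleton_iff.2
      (congrArg Subtype.val hx)⟩
  have h2 := h n (mem_fittingHallOf.2 hn) (fun h' => hn1 (Subtype.ext h')) h1
  exact mem_fittingHallOf.1 h2

/-- A Frobenius maximal subgroup of type I with coherent `S(L)` satisfies the hypothesis of (7.8). -/
theorem exists_cohHyp [Fintype G] {L : Subgroup G} [Fintype ↥L] (hodd : Odd (Nat.card G))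
    (hL : TypeIHyp L) (hfrob : FrobF L)
    (hcoh : IsCoherent (inducedIrrAbove (fittingHall ↥L) ⊥) {1}ᶜ (tauOf L)) :
    ∃ (ν : (↥L → ℂ) → (G → ℂ)) (ζ : ↥L → ℂ), CohHyp L (fittingHallOf L) (supportR L) ν ζ ∧
      conjFun ζ ≠ ζ := by
  classical
  obtain ⟨N, hN⟩ := InstBasic.exists_typeIHyp_of_typeF hL.typeF hL.not_typeP hodd hL.dade
  have hn := hN.typeF.normal
  have hind := indHyp hodd hL
  obtain ⟨-, ν, hν, hext⟩ := hcoh
  have hS : indS L (fittingHallOf L) = inducedIrrAbove (fittingHall ↥L) ⊥ := by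
    rw [PF7IndBasic.indS_eq, OddOrderLocal.FittingHall.fittingHallOf_subgroupOf]
  -- a nonprincipal linear character of `L_F`
  have hnil := OddOrderLocal.FittingHall.fittingHall_isNilpotent (G := ↥L)
  have hsol : Group.IsSolvable (fittingHall ↥L) := inferInstance
  have hbt : (⊥ : Subgroup (fittingHall ↥L)) ≠ ⊤ := by
    intro h
    apply hN.typeF.ne_bot
    rw [eq_bot_iff]
    intro x hx
    have : (⟨x, hx⟩ : fittingHall ↥L) ∈ (⊥ : Subgroup (fittingHall ↥L)) := by
      rw [h]; exact Subgroup.mem_top _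
    rw [Subgroup.mem_bot] at this
    rw [Subgroup.mem_bot]
    exact congrArg Subtype.val this
  obtain ⟨f, hf1, -⟩ := InducedSum.exists_hom_above hsol (⊥ : Subgroup (fittingHall ↥L)) hbt
  let θ : ↥(fittingHall ↥L) → ℂ := fun k => (f k : ℂ)
  have hθ : IsIrrCharacter ↥(fittingHall ↥L) θ := Characters.Linear.isIrrCharacter_hom f
  have hθ1 : θ ≠ fun _ => 1 := by
    intro h
    apply hf1
    ext k
    exact congrFun h k
  let ζ : ↥L → ℂ := indFun (fittingHall ↥L) θ
  have hζmem : ζ ∈ inducedIrrAbove (fittingHall ↥L) ⊥ := by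
    refine ⟨θ, hθ, hθ1, fun a ha => ?_, rfl⟩
    rw [Subgroup.mem_bot] at ha
    congr 1
    exact Subtype.ext ha
  have hζirr : IsIrrCharacter ↥L ζ :=
    FrobInd.isIrr_indFun (fittingHall ↥L) (centralizer_le_of_frobF hfrob) θ hθ hθ1
  have hCoh : CohHyp L (fittingHallOf L) (supportR L) ν ζ := by
    refine ⟨hind, ?_, ?_, ?_, hζirr, ?_⟩
    · rw [hS]; exact hν
    · rw [hS]
      intro α hα
      rw [hext α hα]
      have hcl : IsClassFunction ↥L α := by
        refine gen_isClassFunction (gen_of_mem_zspan ?_ hα.1)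
        intro χ hχ
        exact gen_of_char (TypeISystem.isCharacter_of_mem hχ)
      refine (InstBasic.dadeIsometry_sharp hN hcl ?_).symm
      intro x hx
      by_cases hx1 : x = 1
      · rw [hx1]
        exact (mem_zspanOn_one_iff.1 hα).2
      · have hxH : x ∉ fittingHall ↥L := fun hxH =>
          hx ⟨⟨x, hxH, rfl⟩, fun h' => hx1 (Subtype.ext h')⟩
        refine zspan_induction (p := fun α : ↥L → ℂ => α x = 0) rfl ?_ ?_ ?_ hα.1
        · intro χ hχ
          exact TypeISystem.vanish_off_H hn hχ hxH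
        · intro a _ b _ ha hb
          rw [Pi.add_apply, ha, hb, add_zero]
        · intro n a _ ha
          rw [Pi.smul_apply, ha, smul_zero]
    · rw [hS]; exact hζmem
    · show indFun (fittingHall ↥L) θ 1 = _
      rw [IndRes.indFun_apply_one, OddOrderLocal.FittingHall.relIndex_fittingHallOf]
      show _ * ((f 1 : ℂˣ) : ℂ) = _
      rw [map_one, Units.val_one, mul_one]
  refine ⟨ν, ζ, hCoh, ?_⟩
  exact PF7Pair.conj_ne hodd hind (hS ▸ hζmem) hζirr

end pack

section final

variable [Finite G]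

/-- The outcome (12.8)–(12.12) of the local analysis.  `K = M_F`, `H = L_F`, `h = |H|`, `e = |L : H|`. -/
structure CharHyp (M L : Subgroup G) (p : ℕ) (x y : G) : Prop where
  odd : Odd (Nat.card G)
  prime : p.Prime
  typeM : TypeIHyp M
  typeL : TypeIHyp L
  frobL : FrobF L
  coh : ∀ [Fintype G] [Fintype ↥L],
    IsCoherent (inducedIrrAbove (fittingHall ↥L) ⊥) {1}ᶜ (tauOf L)
  disj : Disjoint (dadeSupport (sharpF M) (supportR M)) (dadeSupport (sharpF L) (supportR L))
  orderOf_x : orderOf x = p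
  x_mem_H : x ∈ fittingHallOf L
  x_mem_M : x ∈ M
  x_notMem_K : x ∉ fittingHallOf M
  centralizer_x : Subgroup.centralizer ({x} : Set G) ≤ M
  supportR_x : ∀ r ∈ supportR L x, r ∈ fittingHallOf M
  y_mem : y ∈ fittingHallOf M
  y_notMem : y ∉ ⁅fittingHallOf M, fittingHallOf M⁆
  comm : x * y = y * x
  /-- `e ≤ (p + 1) / 2` -/
  e_le : 2 * (fittingHallOf L).relIndex L ≤ p + 1
  /-- `3 ≤ e` -/
  le_e : 3 ≤ (fittingHallOf L).relIndex L
  /-- `p² ≤ h` -/
  h_ge : p ^ 2 ≤ Nat.card (fittingHallOf L)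
  /-- `|M : K| ≤ h` -/
  index_le : (fittingHallOf M).relIndex M ≤ Nat.card (fittingHallOf L)
  /-- `|K : K'| ≥ 5` -/
  card_K : 5 * Nat.card ↥⁅fittingHallOf M, fittingHallOf M⁆ ≤ Nat.card ↥(fittingHallOf M)

/-- (12.13)–(12.16) -/
theorem false_of_charHyp {M L : Subgroup G} {p : ℕ} {x y : G} (h : CharHyp M L p x y) : False := by
  classical
  have := Fintype.ofFinite G
  have := Fintype.ofFinite ↥L
  have := Fintype.ofFinite ↥M
  obtain ⟨ν, ζ, hC, hζ⟩ := exists_cohHyp h.odd h.typeL h.frobL h.coh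
  obtain ⟨N, hN⟩ := InstBasic.exists_typeIHyp_of_typeF h.typeM.typeF h.typeM.not_typeP h.odd
    h.typeM.dade
  have hn := hN.typeF.normal
  have hgen : IsGeneralizedCharacter G (ν ζ) := PF7Ind.nu_gen hC hC.mem
  have hcl : IsClassFunction G (ν ζ) := gen_isClassFunction hgen
  -- (12.3)
  have horth : TypeIConstant.OrthI (typeA0' M) M (fittingHall ↥M) (supportR M) (ν ζ) := by
    refine Ortho.orthI_coh hN hC hζ (B := sharpF M) ?_ h.disj
    intro z hz hz1
    exact ⟨⟨z, hz, rfl⟩, fun h' => hz1 (Subtype.ext h')⟩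
  -- (12.4)
  have hconst : ∀ k ∈ fittingHallOf M, ν ζ (x * k) = ν ζ x := by
    intro k hk
    refine InstBasic.ortho_constant' hN ?_ hcl horth h.x_mem_M h.x_notMem_K hk
    intro a ha haK
    exact h.typeM.supportR_eq a ha haK
  -- (12.5)
  obtain ⟨b, hb⟩ := InstBasic.exists_rho_sharp_eq hN hgen horth
  have hp3 : 3 ≤ p := by
    have h2 : p ≠ 2 := by
      rintro rfl
      have h3 : 2 ∣ Nat.card G := h.orderOf_x ▸ orderOf_dvd_natCard x
      have := h.odd
      rw [Nat.odd_iff] at this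
      omega
    have := h.prime.two_le
    omega
  have hy1 : y ≠ 1 := by
    rintro rfl
    exact h.y_notMem (one_mem _)
  have hyA : y ∈ typeA0' M := InstBasic.sharp_subset hN ⟨h.y_mem, hy1⟩
  refine Final.contradiction hC hζ (M := M) (K := fittingHallOf M) (R' := supportR M)
    (OddOrderLocal.FittingHall.fittingHallOf_le M) (InstBasic.dade_sharp hN) h.disj.symm h.prime hp3
    h.orderOf_x h.x_mem_H (fun u hu => hconst u (h.supportR_x u hu)) h.y_mem h.y_notMem h.comm
    (hconst y h.y_mem) ?_ b hb h.le_e h.e_le h.h_ge ?_ ?_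
  · intro u hu hxu
    have huM : u ∈ M := h.centralizer_x (Subgroup.mem_centralizer_singleton_iff.2 hxu.symm)
    exact DadeBasic.H_inf_L h.typeM.dade hyA hu huM
  · have h1 : Nat.card ↥⁅fittingHallOf M, fittingHallOf M⁆ *
        (⁅fittingHallOf M, fittingHallOf M⁆).relIndex (fittingHallOf M) =
        Nat.card (fittingHallOf M) := by
      rw [← Subgroup.relIndex_bot_left, ← Subgroup.relIndex_bot_left]
      exact Subgroup.relIndex_mul_relIndex ⊥ _ _ bot_le (Subgroup.commutator_le_self _)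
    have h2 := h.card_K
    rw [← h1, mul_comm] at h2
    exact Nat.le_of_mul_le_mul_left h2 Nat.card_pos
  · have h1 : Nat.card (fittingHallOf M) * (fittingHallOf M).relIndex M = Nat.card M := by
      rw [← Subgroup.relIndex_bot_left, ← Subgroup.relIndex_bot_left]
      exact Subgroup.relIndex_mul_relIndex ⊥ _ _ bot_le
        (OddOrderLocal.FittingHall.fittingHallOf_le M)
    rw [← h1]
    exact Nat.mul_le_mul_left _ h.index_le

end final

end Cfsg.Agent.OddOrderCharacters.PF12.FinalChar
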