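import Mathlib
import Cfsg.Prelude.Def_OddOrderLocal
import Cfsg.Agent.OddOrderCharacters.PF12.PivotDef
import Cfsg.Agent.OddOrderLocal.MinSimpleBasic
import Cfsg.Agent.OddOrderLocal.DecompBasic
import Cfsg.Agent.OddOrderLocal.SylIn
import Cfsg.Agent.OddOrderLocal.Rank
import Cfsg.Agent.OddOrderLocal.SigmaCompl
import Cfsg.Agent.OddOrderLocal.Equivariance
import Cfsg.Agent.OddOrderLocal.FittingHall
import Cfsg.Agent.Lib.CoprimeHyperplane
import Cfsg.Agent.S1350
import Cfsg.Agent.S1352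
import Cfsg.Agent.S1355
import Cfsg.Agent.S1357
import Cfsg.Agent.S1358
import Cfsg.Agent.S1359
import Cfsg.Agent.S1361
import Cfsg.Agent.S1375
import Cfsg.Agent.S1429
import Cfsg.Agent.S1545

/-!
# Peterfalvi (12.8), (12.9), (12.11): the local part of Section 12

`M` is a maximal subgroup with `κ(M) = ∅` (type I) and `p` a prime such that the Sylow `p`-subgroups of a
complement to `M_F` in `M` are not cyclic.
-/

set_option autoImplicit false
set_option linter.unusedSectionVars false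

open Cfsg

namespace Cfsg.Agent.OddOrderCharacters.PF12.Local

open Cfsg.Agent.OddOrderLocal.SylIn Cfsg.Agent.OddOrderLocal.Rank
open Cfsg.Agent.OddOrderCharacters.PF12.PivotDef

universe u

variable {G : Type u} [Group G]

/-! ### General facts -/

/-- The elements of order dividing `p` of an abelian group `P`. -/
def omega (p : ℕ) (P : Subgroup G) (h : IsMulCommutative P) : Subgroup G where
  carrier := {x | x ∈ P ∧ x ^ p = 1}
  one_mem' := ⟨P.one_mem, one_pow p⟩
  mul_mem' := by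
    rintro a b ⟨ha, hap⟩ ⟨hb, hbp⟩
    refine ⟨P.mul_mem ha hb, ?_⟩
    have hc : Commute a b := congrArg Subtype.val (h.is_comm.comm (⟨a, ha⟩ : P) ⟨b, hb⟩)
    rw [hc.mul_pow, hap, hbp, one_mul]
  inv_mem' := by
    rintro a ⟨ha, hap⟩
    exact ⟨P.inv_mem ha, by rw [inv_pow, hap, inv_one]⟩

theorem mem_omega {p : ℕ} {P : Subgroup G} {h : IsMulCommutative P} {x : G} :
    x ∈ omega p P h ↔ x ∈ P ∧ x ^ p = 1 := Iff.rfl

theorem omega_le {p : ℕ} {P : Subgroup G} (h : IsMulCommutative P) : omega p P h ≤ P :=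
  fun _ hx => hx.1

theorem omega_elemAb {p : ℕ} {P : Subgroup G} (h : IsMulCommutative P) :
    IsElementaryAbelian p (omega p P h) := by
  rw [elemAb_def]
  refine ⟨fun a ha b hb => ?_, fun a ha => ha.2⟩
  exact congrArg Subtype.val (h.is_comm.comm (⟨a, ha.1⟩ : P) ⟨b, hb.1⟩)

theorem closure_omega {p : ℕ} {P : Subgroup G} (h : IsMulCommutative P) :
    Subgroup.closure {x : G | x ∈ P ∧ x ^ p = 1} = omega p P h :=
  Subgroup.closure_eq (omega p P h)

theorem centralizer_zpowers (x : G) :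
    Subgroup.centralizer (Subgroup.zpowers x : Set G) = Subgroup.centralizer ({x} : Set G) := by
  rw [Subgroup.zpowers_eq_closure, Subgroup.centralizer_closure]

variable [Finite G]

theorem commutator_lt_self {K : Subgroup G} (hK : Group.IsSolvable K) (h1 : K ≠ ⊥) : ⁅K, K⁆ < K := by
  have hn : Nontrivial K := (Subgroup.nontrivial_iff_ne_bot K).mpr h1
  have h := Group.IsSolvable.commutator_lt_top_of_nontrivial (G := K)
  have h2 := (Subgroup.map_lt_map_iff_of_injective (f := K.subtype) K.subtype_injective).mpr h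
  rw [Subgroup.map_subtype_commutator] at h2
  refine lt_of_lt_of_le h2 ?_
  exact Subgroup.map_subtype_le _

/-- `M_F = M_σ` and a standard factorisation with `K = 1`. -/
theorem exists_U (hG : IsMinSimpleOddOrder G) {M : Subgroup G} (hM : IsCoatom M)
    (hκ : kappa M = ∅) :
    fittingHallOf M = sigmaCore M ∧ ∃ U : Subgroup G, IsSigmaDecomposition M ⊥ U := by
  have hb : IsPiHallOf (kappa M) ⊥ M := by
    refine ⟨bot_le, fun p hp hd => ?_, fun p hp hk => ?_⟩
    · rw [Subgroup.card_bot] at hd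
      exact absurd (Nat.dvd_one.mp hd) hp.one_lt.ne'
    · rw [hκ] at hk
      exact absurd hk (Set.notMem_empty p)
  obtain ⟨⟨U, hU⟩, -⟩ := Cfsg.Agent.S1352.result hG M hM ⊥ inferInstance hb
  refine ⟨?_, U, hU⟩
  by_contra hne
  have := (Cfsg.Agent.S1357.result hG M hM ⊥ U hU hne).2.2
  rw [Subgroup.card_bot] at this
  exact Nat.not_prime_one this

theorem compl_of_decomp {M U : Subgroup G} (h : IsSigmaDecomposition M ⊥ U) :
    IsComplIn U (sigmaCore M) M := by
  have := h.compl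
  rwa [bot_sup_eq] at this

theorem decomp_of_compl {M D : Subgroup G} (hκ : kappa M = ∅)
    (h : IsComplIn D (sigmaCore M) M) : IsSigmaDecomposition M ⊥ D where
  cyclic := inferInstance
  hall := by
    refine ⟨bot_le, fun p hp hd => ?_, fun p hp hk => ?_⟩
    · rw [Subgroup.card_bot] at hd
      exact absurd (Nat.dvd_one.mp hd) hp.one_lt.ne'
    · rw [hκ] at hk
      exact absurd hk (Set.notMem_empty p)
  compl := by rwa [bot_sup_eq]
  normal := bot_le

/-- For a complement `D` to `M_σ` in `M`: `|M| = |D| |M_σ|`. -/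
theorem card_compl {M D : Subgroup G} (h : IsComplIn D (sigmaCore M) M) :
    Nat.card M = Nat.card D * Nat.card (sigmaCore M) := by
  have hn : ((sigmaCore M).subgroupOf M).Normal :=
    Subgroup.normal_subgroupOf_iff_le_normalizer (Cfsg.Agent.OddOrderLocal.DecompBasic.sigmaCore_le M)
      |>.mpr (Cfsg.Agent.OddOrderLocal.DecompBasic.le_normalizer_sigmaCore M)
  have hc : (D.subgroupOf M).IsComplement' ((sigmaCore M).subgroupOf M) := by
    apply Subgroup.isComplement'_of_disjoint_and_mul_eq_univ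
    · rw [disjoint_iff, eq_bot_iff]
      rintro ⟨x, hx⟩ hx'
      rw [Subgroup.mem_inf, Subgroup.mem_subgroupOf, Subgroup.mem_subgroupOf] at hx'
      have : x ∈ D ⊓ sigmaCore M := hx'
      rw [h.2.2.1, Subgroup.mem_bot] at this
      rw [Subgroup.mem_bot]
      exact Subtype.ext this
    · rw [Set.eq_univ_iff_forall]
      rintro ⟨x, hx⟩
      obtain ⟨a, ha, b, hb, hab⟩ := h.2.2.2 x hx
      refine Set.mem_mul.mpr ⟨⟨a, h.1 ha⟩, ha, ⟨b, h.2.1 hb⟩, hb, Subtype.ext hab.symm⟩
  rw [← hc.card_mul_card, Nat.card_congr (Subgroup.subgroupOfEquivOfLe h.1).toEquiv,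
    Nat.card_congr (Subgroup.subgroupOfEquivOfLe h.2.1).toEquiv]

theorem sigmaCore_hall (hG : IsMinSimpleOddOrder G) {M : Subgroup G} (hM : IsCoatom M) :
    IsPiHallOf (sigma M) (sigmaCore M) M := (Cfsg.Agent.S1350.result hG M hM).1

theorem coprime_compl (hG : IsMinSimpleOddOrder G) {M D : Subgroup G} (hM : IsCoatom M)
    (h : IsComplIn D (sigmaCore M) M) : (Nat.card (sigmaCore M)).Coprime (Nat.card D) := by
  have hh := sigmaCore_hall hG hM
  have h1 : (sigmaCore M).relIndex M = Nat.card D := by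
    have h2 := card_mul_relIndex (Cfsg.Agent.OddOrderLocal.DecompBasic.sigmaCore_le M)
    rw [card_compl h, mul_comm] at h2
    exact Nat.eq_of_mul_eq_mul_right Nat.card_pos h2
  rw [← h1, Nat.coprime_iff_gcd_eq_one]
  by_contra hne
  obtain ⟨p, hp, hd⟩ := Nat.exists_prime_and_dvd hne
  exact hh.2.2 p hp (hh.2.1 p hp (hd.trans (Nat.gcd_dvd_left _ _))) (hd.trans (Nat.gcd_dvd_right _ _))

/-- A maximal subgroup `L` with `p ∈ σ(L)` containing a given `p`-subgroup in `L_σ`. -/
theorem exists_L (hG : IsMinSimpleOddOrder G) {p : ℕ} [Fact p.Prime] {P : Subgroup G}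
    (hP : IsPGroup p P) (h1 : P ≠ ⊥) :
    ∃ L : Subgroup G, IsCoatom L ∧ p ∈ sigma L ∧ P ≤ sigmaCore L := by
  obtain ⟨Q, hQ⟩ := hP.exists_le_sylow
  have hQ1 : (Q : Subgroup G) ≠ ⊥ := fun h => h1 (le_bot_iff.mp (h ▸ hQ))
  have hQt : (Q : Subgroup G) ≠ ⊤ := Cfsg.Agent.OddOrderLocal.MinSimpleBasic.sylow_ne_top hG Q
  obtain ⟨L, hL, hQL⟩ :=
    Cfsg.Agent.OddOrderLocal.MinSimpleBasic.exists_coatom_normalizer_le hG hQ1 hQt
  have hQL' : (Q : Subgroup G) ≤ L := Subgroup.le_normalizer.trans hQL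
  have hpd : p ∣ Nat.card Q := by
    have hnt : Nontrivial (Q : Subgroup G) := (Subgroup.nontrivial_iff_ne_bot _).mpr hQ1
    obtain ⟨n, hn, hc⟩ := Q.isPGroup'.nontrivial_iff_card.mp hnt
    rw [show Nat.card Q = p ^ n from hc]
    exact dvd_pow_self p hn.ne'
  have hσ : p ∈ sigma L := by
    refine ⟨Fact.out, hpd.trans (Subgroup.card_dvd_of_le hQL'), Q.subtype hQL', ?_⟩
    have : ((Q.subtype hQL' : Subgroup L).map L.subtype : Subgroup G) = Q := by
      rw [Sylow.coe_subtype]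
      exact Subgroup.map_subgroupOf_eq_of_le hQL'
    rw [this]
    exact hQL
  refine ⟨L, hL, hσ, hQ.trans ?_⟩
  refine Cfsg.Agent.OddOrderLocal.SigmaCompl.le_of_isPiHallOf_normal (sigmaCore_hall hG hL)
    (Cfsg.Agent.OddOrderLocal.DecompBasic.le_normalizer_sigmaCore L) hQL' ?_
  intro q hq hqd
  obtain ⟨n, hn⟩ := (IsPGroup.iff_card).mp Q.isPGroup'
  rw [show Nat.card Q = p ^ n from hn] at hqd
  have : q = p := (Nat.prime_dvd_prime_iff_eq hq Fact.out).mp (hq.dvd_of_dvd_pow hqd)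
  rw [this]
  exact hσ


/-- `|D|` for a complement `D` is divisible by every prime divisor of `|M|` not dividing `|M_σ|`; the
`p`-part of `M` lies in `D`. -/
theorem isSyl_of_compl {M D P : Subgroup G} {p : ℕ} [Fact p.Prime]
    (h : IsComplIn D (sigmaCore M) M) (hp : ¬ p ∣ Nat.card (sigmaCore M)) (hP : IsSyl p P D) :
    IsSyl p P M := by
  refine ⟨hP.le.trans h.1, hP.isPGroup, fun hd => ?_⟩
  have h1 := Subgroup.relIndex_mul_relIndex P D M hP.le h.1
  have h2 := card_mul_relIndex h.1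
  rw [card_compl h] at h2
  have h3 : D.relIndex M = Nat.card (sigmaCore M) := Nat.eq_of_mul_eq_mul_left Nat.card_pos h2
  rw [← h1, h3, (Fact.out : p.Prime).dvd_mul] at hd
  rcases hd with hd | hd
  · exact hP.not_dvd hd
  · exact hp hd

theorem le_normalizer_of_le {K H : Subgroup G} {M : Subgroup G} (h : H ≤ M)
    (hM : M ≤ Subgroup.normalizer (K : Set G)) : H ≤ Subgroup.normalizer (K : Set G) := h.trans hM

/-- **S1429** in terms of `omega`. -/
theorem inf_centralizer_omega (hG : IsMinSimpleOddOrder G) {M P : Subgroup G} (hM : IsCoatom M)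
    (hκ : kappa M = ∅) {p : ℕ} [hp : Fact p.Prime] (hpM : p ∣ Nat.card M) (hσ : p ∉ sigma M)
    (hP : IsSyl p P M) (hc : IsMulCommutative P) :
    sigmaCore M ⊓ Subgroup.centralizer (omega p P hc : Set G) = ⊥ := by
  obtain ⟨S, hS⟩ := hP.exists_sylow
  have h := (Cfsg.Agent.S1429.result hG M hM (fun h => by
      have := h p hp.out hpM hσ
      rw [hκ] at this
      exact this) p hpM (by
      rintro (h | h)
      · exact hσ h
      · rw [hκ] at h; exact h) S).2.1
  rw [hS, closure_omega hc] at h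
  exact h

/-- The image of a hyperplane computation: a noncyclic elementary abelian `p`-group acting on the nilpotent
`p'`-group `K ≠ 1` has an element `x` of order `p` with `C_K(x) ⊄ K'`. -/
theorem exists_cent_not_le {p : ℕ} [hp : Fact p.Prime] {A K : Subgroup G}
    (hA : IsElementaryAbelian p A) (hAc : p < Nat.card A) (hK : ¬ p ∣ Nat.card K)
    (hAK : A ≤ Subgroup.normalizer (K : Set G)) (hKs : Group.IsSolvable K) (hK1 : K ≠ ⊥) :
    ∃ x ∈ A, x ≠ 1 ∧ ∃ g ∈ K, g ∉ ⁅K, K⁆ ∧ x * g = g * x := by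
  have hA1 : A ≠ ⊥ := by
    rintro rfl
    rw [Subgroup.card_bot] at hAc
    exact absurd hAc (not_lt.mpr hp.out.one_lt.le)
  have hgen := Cfsg.Agent.Lib.CoprimeHyperplane.iSup_centralizer_hyperplane hA hA1 hK hAK
  by_contra hcon
  push Not at hcon
  have hlt := commutator_lt_self hKs hK1
  apply hlt.not_ge
  rw [← hgen]
  conv_rhs => rw [hgen]
  refine iSup_le fun B => ?_
  have hB := B.2
  have hB1 : (B : Subgroup G) ≠ ⊥ := by
    intro h
    have h2 := hB.2
    rw [h, Subgroup.relIndex_bot_left] at h2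
    exact hAc.ne' h2
  obtain ⟨b, hb⟩ := Subgroup.ne_bot_iff_exists_ne_one.mp hB1
  rintro g ⟨hgK, hgB⟩
  by_contra hgn
  refine hcon b (hB.1 b.2) (fun h => hb (Subtype.ext h)) g hgK hgn ?_
  exact Subgroup.mem_centralizer_iff.mp hgB b b.2

theorem conj_sq_mem {K : Type*} [Group K] [Finite K] (hc : (commutator K).index = 3)
    (ψ : MulAut K) (k : K) : k⁻¹ * ψ (ψ k) ∈ commutator K := by
  have hmap : (commutator K).map (ψ : K ≃* K).toMonoidHom = commutator K :=
    Subgroup.characteristic_iff_map_eq.mp inferInstance ψ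
  let f : MulAut (K ⧸ commutator K) := QuotientGroup.congr _ _ ψ hmap
  have hf : ∀ x : K, f (QuotientGroup.mk' _ x) = QuotientGroup.mk' _ (ψ x) := fun x => rfl
  have hcard : Nat.card (K ⧸ commutator K) = 3 := by rw [← Subgroup.index_eq_card, hc]
  have : Fact (Nat.Prime 3) := ⟨Nat.prime_three⟩
  have hcyc : IsCyclic (K ⧸ commutator K) := isCyclic_of_prime_card hcard
  have h2 : Nat.card (MulAut (K ⧸ commutator K)) = 2 := by
    rw [IsCyclic.card_mulAut, hcard]; rfl
  have hff : f ^ 2 = 1 := by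
    rw [← h2]; exact pow_card_eq_one'
  have h3 : f (f (QuotientGroup.mk' _ k)) = QuotientGroup.mk' _ k := by
    have := DFunLike.congr_fun hff (QuotientGroup.mk' _ k)
    rw [pow_two] at this
    exact this
  rw [hf, hf] at h3
  exact QuotientGroup.eq.mp h3.symm

theorem exists_fixed_of_relIndex_three {p : ℕ} [hp : Fact p.Prime] (hp2 : p ≠ 2)
    {A K : Subgroup G} (hA : IsElementaryAbelian p A) (hK : ¬ p ∣ Nat.card K)
    (hAK : A ≤ Subgroup.normalizer (K : Set G)) (hidx : (⁅K, K⁆).relIndex K = 3) :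
    ∃ g ∈ K, g ∉ ⁅K, K⁆ ∧ ∀ a ∈ A, a * g = g * a := by
  have hKK : (⁅K, K⁆).subgroupOf K = commutator K := by
    rw [← Subgroup.map_subtype_commutator]
    exact Subgroup.comap_map_eq_self_of_injective K.subtype_injective _
  have hc : (commutator K).index = 3 := by rw [← hKK]; exact hidx
  let cA : CommGroup A :=
    { (inferInstance : Group A) with mul_comm := fun x y => hA.1.is_comm.comm x y }
  obtain ⟨k, hk⟩ : ∃ k : K, k ∉ commutator K := by
    by_contra h
    push Not at h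
    have : commutator K = ⊤ := (Subgroup.eq_top_iff' _).mpr h
    rw [this, Subgroup.index_top] at hc
    omega
  have hodd : Odd p := hp.out.odd_of_ne_two hp2
  obtain ⟨m, hm⟩ := hodd
  have hAp : IsPGroup p A := fun a => ⟨1, by
    apply Subtype.ext
    simpa using hA.2 a a.2⟩
  obtain ⟨y, hy, hyk⟩ := Cfsg.Agent.Lib.CoprimeHyperplane.exists_fixed_in_coset
    (A := A) (R := K) (Cfsg.Agent.Lib.CoprimeHyperplane.conjHom hAK) (p := p) (B := ⊤)
    (hAp.to_subgroup ⊤) (N := commutator K)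
    (fun h => hK (h.trans (Subgroup.card_subgroup_dvd_card _)))
    (fun b _ x hx => by
      have hmap : (commutator K).map
          ((Cfsg.Agent.Lib.CoprimeHyperplane.conjHom hAK b : MulAut K) : K ≃* K).toMonoidHom =
          commutator K := Subgroup.characteristic_iff_map_eq.mp inferInstance _
      rw [← hmap]
      exact ⟨x, hx, rfl⟩) k
    (fun b _ => by
      have hb : b = (b ^ (m + 1)) ^ 2 := by
        apply Subtype.ext
        have hbp : (b : G) ^ p = 1 := hA.2 b b.2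
        have : ((m + 1) * 2 : ℕ) = p + 1 := by omega
        rw [← pow_mul, this, pow_succ]
        simp [hbp]
      have := conj_sq_mem hc (Cfsg.Agent.Lib.CoprimeHyperplane.conjHom hAK (b ^ (m + 1))) k
      rw [← MulAut.mul_apply, ← map_mul, ← pow_two, ← hb] at this
      exact this)
  refine ⟨y, y.2, fun h => ?_, fun a ha => ?_⟩
  · have h1 : y ∈ commutator K := by rw [← hKK]; exact h
    apply hk
    have : k = y * (k⁻¹ * y)⁻¹ := by group
    rw [this]
    exact mul_mem h1 (inv_mem hyk)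
  · have h1 := congrArg Subtype.val (hy ⟨a, ha⟩ (Subgroup.mem_top _))
    rw [Cfsg.Agent.Lib.CoprimeHyperplane.conjHom_apply] at h1
    exact mul_inv_eq_iff_eq_mul.mp h1

/-! ### (12.8), (12.9) -/

/-- (12.8), (12.9) -/
theorem exists_pivot (hG : IsMinSimpleOddOrder G) {M : Subgroup G} (hM : IsCoatom M)
    (hκ : kappa M = ∅) {p : ℕ} (hp : p.Prime) (hpK : ¬ p ∣ Nat.card (fittingHallOf M))
    (hrk : ¬ PRankLE p 1 M) : ∃ (P L : Subgroup G) (x : G), Pivot M P L p x := by
  have : Fact p.Prime := ⟨hp⟩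
  obtain ⟨hMeq, U, hU⟩ := exists_U hG hM hκ
  have hcU := compl_of_decomp hU
  have hpK' : ¬ p ∣ Nat.card (sigmaCore M) := hMeq ▸ hpK
  have hSM := Cfsg.Agent.OddOrderLocal.DecompBasic.sigmaCore_le M
  have hSn := Cfsg.Agent.OddOrderLocal.DecompBasic.le_normalizer_sigmaCore M
  -- an elementary abelian subgroup of order `p ^ 2`
  obtain ⟨E, hEM, hE, hEc⟩ := exists_elemAb_of_not_pRankLE hrk
  -- a Sylow `p`-subgroup of `U`
  obtain ⟨S⟩ : Nonempty (Sylow p U) := inferInstance
  set P : Subgroup G := (S : Subgroup U).map U.subtype with hPdef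
  have hPU : IsSyl p P U := isSyl_of_sylow S
  have hPM : IsSyl p P M := isSyl_of_compl hcU hpK' hPU
  obtain ⟨hSc, hSr⟩ := Cfsg.Agent.S1358.result hG M hM ⊥ U hU p hp S
  have hPc : IsMulCommutative P := Subgroup.map_isMulCommutative _ _
  have hPr : PRankLE p 2 P :=
    (pRankLE_congr ((S : Subgroup U).equivMapOfInjective U.subtype U.subtype_injective)).mp hSr
  -- the rank of `P` is two
  have hPr' : ¬ PRankLE p 1 P := by
    obtain ⟨m, hm, hmE⟩ := hPM.exists_conj_le hEM (elemAb_isPGroup hE)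
    refine not_pRankLE_of_elemAb hmE (elemAb_map _ hE) ?_
    rw [Subgroup.card_map_of_injective (MulAut.conj m).injective, hEc]
    exact Nat.pow_lt_pow_right hp.one_lt (by norm_num)
  have hP1 : P ≠ ⊥ := by
    intro h
    apply hPr'
    rw [h]
    intro B _ _
    calc Nat.card B ≤ Nat.card (⊥ : Subgroup G) := Nat.card_le_card_of_injective B.subtype B.subtype_injective
      _ = 1 := Subgroup.card_bot
      _ ≤ p ^ 1 := by rw [pow_one]; exact hp.one_lt.le
  have hpP : p ∣ Nat.card P := by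
    have hnt : Nontrivial P := (Subgroup.nontrivial_iff_ne_bot P).mpr hP1
    obtain ⟨n, hn, hc⟩ := hPM.isPGroup.nontrivial_iff_card.mp hnt
    rw [hc]
    exact dvd_pow_self p hn.ne'
  have hpM : p ∣ Nat.card M := hpP.trans (Subgroup.card_dvd_of_le hPM.le)
  have hp2 : p ≠ 2 := Cfsg.Agent.OddOrderLocal.MinSimpleBasic.prime_ne_two_of_dvd hG
    (hpM.trans (Subgroup.card_subgroup_dvd_card M))
  have hσ : p ∉ sigma M := by
    intro h
    have h1 := (sigmaCore_hall hG hM).2.2 p hp h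
    have h2 := card_mul_relIndex hSM
    rw [← h2, hp.dvd_mul] at hpM
    rcases hpM with h3 | h3
    · exact hpK' h3
    · exact h1 h3
  -- `Ω₁(P)`
  set A : Subgroup G := omega p P hPc with hAdef
  have hA : IsElementaryAbelian p A := omega_elemAb hPc
  have hAP : A ≤ P := omega_le hPc
  have hAc : p < Nat.card A := by
    obtain ⟨B, hBP, hB, hBc⟩ := exists_elemAb_of_not_pRankLE hPr'
    have hBA : B ≤ A := fun b hb => ⟨hBP hb, hB.2 b hb⟩
    calc p = p ^ 1 := (pow_one p).symm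
      _ < p ^ 2 := Nat.pow_lt_pow_right hp.one_lt (by norm_num)
      _ = Nat.card B := hBc.symm
      _ ≤ Nat.card A := Subgroup.card_le_of_le hBA
  have hAn : A ≤ Subgroup.normalizer (sigmaCore M : Set G) := (hAP.trans hPM.le).trans hSn
  have hKnil : Group.IsNilpotent (fittingHallOf M) :=
    Cfsg.Agent.OddOrderLocal.FittingHall.fittingHallOf_isNilpotent M
  have hKs : Group.IsSolvable (sigmaCore M) := by
    rw [← hMeq]; infer_instance
  have hK1 : sigmaCore M ≠ ⊥ := by
    rw [← hMeq]; exact (Cfsg.Agent.S1355.result hG M hM).1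
  obtain ⟨x, hxA, hx1, g, hgK, hgK', hxg⟩ := exists_cent_not_le hA hAc hpK' hAn hKs hK1
  have hxo : orderOf x = p := orderOf_eq_prime (hA.2 x hxA) hx1
  have hxP : x ∈ P := hAP hxA
  have hg1 : g ≠ 1 := by
    rintro rfl
    exact hgK' (Subgroup.one_mem _)
  obtain ⟨L, hL, hLσ, hPL⟩ := exists_L hG hPM.isPGroup hP1
  have hLM : ∀ g : G, L ≠ M.map (MulAut.conj g).toMonoidHom := by
    rintro g rfl
    apply hσ
    have := Cfsg.Agent.OddOrderLocal.Equivariance.sigma_map (MulAut.conj g) M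
    rw [← this]
    exact hLσ
  have hLM1 : L ≠ M := by
    have := hLM 1
    rwa [Cfsg.Agent.OddOrderLocal.MinSimpleBasic.map_conj_one] at this
  have hzU : Subgroup.zpowers x ≤ U := by
    rw [Subgroup.zpowers_le]
    exact hPU.le hxP
  have hz1 : Subgroup.zpowers x ≠ ⊥ := by rwa [Ne, Subgroup.zpowers_eq_bot]
  have hzc : sigmaCore M ⊓ Subgroup.centralizer (Subgroup.zpowers x : Set G) ≠ ⊥ := by
    intro h
    apply hg1
    rw [← Subgroup.mem_bot, ← h, centralizer_zpowers]
    refine Subgroup.mem_inf.mpr ⟨hgK, Subgroup.mem_centralizer_iff.mpr ?_⟩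
    rintro _ rfl
    exact hxg
  obtain ⟨hcM, hcu⟩ := Cfsg.Agent.S1361.result hG M hM ⊥ U hU (Subgroup.zpowers x) hzU hz1 hzc
  rw [centralizer_zpowers] at hcM hcu
  have hcL : ¬ Subgroup.centralizer ({x} : Set G) ≤ L := fun h => hLM1 (hcu L hL h)
  have hNM : Subgroup.normalizer (Subgroup.zpowers x : Set G) ≤ M := by
    have hzt : Subgroup.zpowers x ≠ ⊤ := by
      intro h
      apply hM.1
      rw [eq_top_iff, ← h]
      exact hzU.trans hcU.1
    obtain ⟨N, hN, hzN⟩ :=
      Cfsg.Agent.OddOrderLocal.MinSimpleBasic.exists_coatom_normalizer_le hG hz1 hzt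
    have h2 : Subgroup.centralizer ({x} : Set G) ≤ Subgroup.normalizer (Subgroup.zpowers x : Set G) := by
      rw [← centralizer_zpowers]
      exact Subgroup.centralizer_le_normalizer _
    rw [← hcu N hN (h2.trans hzN)]
    exact hzN
  obtain ⟨N, ⟨hN, hxN⟩, -, -, -, -, hcomp, -⟩ :=
    Cfsg.Agent.S1375.result hG L hL x (hPL hxP) hx1 hcL
  rw [hcu N hN hxN] at hcomp
  have hidx : 5 ≤ (⁅sigmaCore M, sigmaCore M⁆).relIndex (sigmaCore M) := by
    set n := (⁅sigmaCore M, sigmaCore M⁆).relIndex (sigmaCore M) with hn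
    have hle : ⁅sigmaCore M, sigmaCore M⁆ ≤ sigmaCore M := (commutator_lt_self hKs hK1).le
    have h1 : n ≠ 1 := by
      intro h
      exact (commutator_lt_self hKs hK1).not_ge (Subgroup.relIndex_eq_one.mp h)
    have hodd : Odd n := by
      have h2 : n ∣ Nat.card (sigmaCore M) := by
        rw [← card_mul_relIndex hle]
        exact dvd_mul_left _ _
      exact (Cfsg.Agent.OddOrderLocal.MinSimpleBasic.odd_card_subgroup hG (sigmaCore M)).of_dvd_nat h2
    have h3 : n ≠ 3 := by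
      intro h
      obtain ⟨y, hyK, hy', hyA⟩ := exists_fixed_of_relIndex_three hp2 hA hpK' hAn h
      apply hy'
      have h4 : y ∈ sigmaCore M ⊓ Subgroup.centralizer (A : Set G) := by
        exact Subgroup.mem_inf.mpr ⟨hyK, Subgroup.mem_centralizer_iff.mpr hyA⟩
      rw [inf_centralizer_omega hG hM hκ hpM hσ hPM hPc, Subgroup.mem_bot] at h4
      rw [h4]
      exact Subgroup.one_mem _
    obtain ⟨k, hk⟩ := hodd
    omega
  refine ⟨P, L, x, ?_⟩
  refine
    { prime := hp
      M_max := hM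
      M_eq := hMeq
      not_dvd := hpK
      P_le := hPM.le
      P_pgroup := hPM.isPGroup
      P_syl := hPM.not_dvd
      P_comm := hPc
      P_rank := hPr
      P_rank' := hPr'
      L_max := hL
      L_sigma := hLσ
      P_le_L := hPL
      L_not_conj := hLM
      x_mem := hxP
      x_order := hxo
      cent_le := hcM
      cent_unique := hcu
      norm_le := hNM
      cent_not_le := hcL
      x_cent := ?_
      compl := ?_
      index_K := ?_ }
  · rw [hMeq]; exact ⟨g, hgK, hgK', hxg⟩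
  · rw [hMeq]; exact hcomp
  · rw [hMeq]; exact hidx

/-! ### (12.11) -/

/-- Elements of prime order outside a normal Hall subgroup. -/
theorem exists_prime_order_not_mem {L H : Subgroup G} (hHL : H ≤ L)
    (hn : L ≤ Subgroup.normalizer (H : Set G)) (hc : (Nat.card H).Coprime (H.relIndex L)) {y : G}
    (hy : y ∈ L) (hyH : y ∉ H) :
    ∃ (r k : ℕ), r.Prime ∧ ¬ r ∣ Nat.card H ∧ orderOf (y ^ k) = r := by
  have hnH : (H.subgroupOf L).Normal :=
    (Subgroup.normal_subgroupOf_iff_le_normalizer hHL).mpr hn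
  have h1 : ¬ (orderOf y).Coprime (H.relIndex L) := by
    intro hcop
    apply hyH
    have h2 : orderOf (QuotientGroup.mk' (H.subgroupOf L) ⟨y, hy⟩) ∣ 1 := by
      rw [← Nat.coprime_iff_gcd_eq_one.mp hcop]
      apply Nat.dvd_gcd
      · refine (orderOf_map_dvd _ _).trans ?_
        rw [Subgroup.orderOf_mk]
      · rw [Subgroup.relIndex, Subgroup.index_eq_card]
        exact orderOf_dvd_natCard _
    have h3 : QuotientGroup.mk' (H.subgroupOf L) ⟨y, hy⟩ = 1 := by
      rw [← orderOf_eq_one_iff]; exact Nat.dvd_one.mp h2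
    have h4 : (⟨y, hy⟩ : L) ∈ H.subgroupOf L := (QuotientGroup.eq_one_iff (N := H.subgroupOf L) _).mp h3
    exact h4
  obtain ⟨r, hr, hr1, hr2⟩ := Nat.Prime.not_coprime_iff_dvd.mp h1
  refine ⟨r, orderOf y / r, hr, fun hd => ?_, ?_⟩
  · exact Nat.Prime.not_coprime_iff_dvd.mpr ⟨r, hr, hd, hr2⟩ hc
  · exact orderOf_pow_orderOf_div (orderOf_pos y).ne' hr1

/-- A Sylow `p`-subgroup of a nilpotent subgroup `D` contains all the `p`-elements of `D`. -/
theorem mem_of_isSyl_nilpotent {p : ℕ} [Fact p.Prime] {D P : Subgroup G} (hP : IsSyl p P D)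
    (hD : Group.IsNilpotent D) {z : G} (hz : z ∈ D) {k : ℕ} (hk : z ^ p ^ k = 1) : z ∈ P := by
  obtain ⟨S, hS⟩ := hP.exists_sylow
  have hSn : (S : Subgroup D).Normal := inferInstance
  have hDn : D ≤ Subgroup.normalizer (P : Set G) := by
    rw [← Subgroup.normal_subgroupOf_iff_le_normalizer hP.le, ← hS, Subgroup.subgroupOf,
      Subgroup.comap_map_eq_self_of_injective D.subtype_injective]
    exact hSn
  have hZ : IsPGroup p (Subgroup.zpowers z) := by
    obtain ⟨n, -, hn⟩ := (Nat.dvd_prime_pow Fact.out).mp (orderOf_dvd_of_pow_eq_one hk)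
    exact IsPGroup.of_card (n := n) (by rw [Nat.card_zpowers, hn])
  obtain ⟨m, hm, hmP⟩ := hP.exists_conj_le (Q := Subgroup.zpowers z) (by rwa [Subgroup.zpowers_le]) hZ
  have h1 : m * z * m⁻¹ ∈ P := hmP ⟨z, Subgroup.mem_zpowers z, rfl⟩
  exact (Subgroup.mem_normalizer_iff.mp (hDn hm) z).mpr h1

/-- (12.11) -/
theorem inf_le (hG : IsMinSimpleOddOrder G) {M P L : Subgroup G} {p : ℕ} {x : G}
    (h : Pivot M P L p x) (hκ : kappa M = ∅) (hL : fittingHallOf L = sigmaCore L)
    (hfrob : ∀ y ∈ fittingHallOf L, y ≠ 1 → L ⊓ Subgroup.centralizer ({y} : Set G) ≤ fittingHallOf L) :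
    M ⊓ L ≤ fittingHallOf L := by
  have hp := h.prime
  have : Fact p.Prime := ⟨hp⟩
  set H : Subgroup G := fittingHallOf L with hHdef
  have hM := h.M_max
  have hSM := Cfsg.Agent.OddOrderLocal.DecompBasic.sigmaCore_le M
  have hSn := Cfsg.Agent.OddOrderLocal.DecompBasic.le_normalizer_sigmaCore M
  have hHL : H ≤ L := hL ▸ Cfsg.Agent.OddOrderLocal.DecompBasic.sigmaCore_le L
  have hHn : L ≤ Subgroup.normalizer (H : Set G) :=
    hL ▸ Cfsg.Agent.OddOrderLocal.DecompBasic.le_normalizer_sigmaCore L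
  have hHc : (Nat.card H).Coprime (H.relIndex L) := by
    rw [Nat.coprime_iff_gcd_eq_one]
    by_contra hne
    obtain ⟨q, hq, hd⟩ := Nat.exists_prime_and_dvd hne
    have hh := sigmaCore_hall hG h.L_max
    rw [← hL] at hh
    exact hh.2.2 q hq (hh.2.1 q hq (hd.trans (Nat.gcd_dvd_left _ _))) (hd.trans (Nat.gcd_dvd_right _ _))
  have hPM : IsSyl p P M := ⟨h.P_le, h.P_pgroup, h.P_syl⟩
  have hPH : P ≤ H := by rw [hL]; exact h.P_le_L
  -- `P` is normal in `M ⊓ L`
  set D₁ : Subgroup G := M ⊓ H with hD₁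
  have hPD₁ : P ≤ D₁ := le_inf h.P_le hPH
  have hPsD₁ : IsSyl p P D₁ := hPM.mono hPD₁ inf_le_left
  have hHnil : Group.IsNilpotent H := Cfsg.Agent.OddOrderLocal.FittingHall.fittingHallOf_isNilpotent L
  have hD₁nil : Group.IsNilpotent D₁ :=
    Group.nilpotent_of_mulEquiv (Subgroup.subgroupOfEquivOfLe (inf_le_right : D₁ ≤ H))
  have hPconj : ∀ d ∈ M ⊓ L, ∀ u ∈ P, d * u * d⁻¹ ∈ P := by
    intro d hd u hu
    have hu1 : d * u * d⁻¹ ∈ D₁ :=
      Subgroup.mem_inf.mpr ⟨M.mul_mem (M.mul_mem hd.1 (h.P_le hu)) (M.inv_mem hd.1),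
        (Subgroup.mem_normalizer_iff.mp (hHn hd.2) u).mp (hPH hu)⟩
    obtain ⟨k, hk⟩ := h.P_pgroup ⟨u, hu⟩
    have hk' : u ^ p ^ k = 1 := congrArg Subtype.val hk
    refine mem_of_isSyl_nilpotent hPsD₁ hD₁nil hu1 (k := k) ?_
    rw [conj_pow, hk', mul_one, mul_inv_cancel]
  intro z hz
  by_contra hzH
  obtain ⟨r, k, hr, hrH, hyo⟩ := exists_prime_order_not_mem hHL hHn hHc hz.2 hzH
  set y : G := z ^ k with hy
  have hyML : y ∈ M ⊓ L := Subgroup.pow_mem _ hz k
  -- elements of `⟨y⟩` outside `1` do not lie in `H`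
  set E : Subgroup G := Subgroup.zpowers y with hE
  have hEML : E ≤ M ⊓ L := by rw [hE, Subgroup.zpowers_le]; exact hyML
  have hEcard : Nat.card E = r := by rw [hE, Nat.card_zpowers, hyo]
  have hEH : ∀ e ∈ E, e ≠ 1 → e ∉ H := by
    intro e he he1 heH
    have h1 : orderOf e ∣ r := by
      rw [← hEcard]; exact Subgroup.orderOf_dvd_natCard E he
    have h2 : orderOf e = r :=
      ((Nat.dvd_prime hr).mp h1).resolve_left (fun h => he1 (orderOf_eq_one_iff.mp h))
    apply hrH
    rw [← h2]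
    exact Subgroup.orderOf_dvd_natCard H heH
  set A : Subgroup G := omega p P h.P_comm with hAdef
  have hA : IsElementaryAbelian p A := omega_elemAb h.P_comm
  have hAP : A ≤ P := omega_le h.P_comm
  have hxA : x ∈ A := ⟨h.x_mem, by rw [← h.x_order]; exact pow_orderOf_eq_one x⟩
  have hx1 : x ≠ 1 := by
    intro hx
    have := h.x_order
    rw [hx, orderOf_one] at this
    exact hp.one_lt.ne this
  have hA1 : A ≠ ⊥ := by
    intro hA
    rw [hA, Subgroup.mem_bot] at hxA
    exact hx1 hxA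
  have hEfpf : ∀ e ∈ E, e ≠ 1 → ∀ u ∈ A, e * u = u * e → u = 1 := by
    intro e he he1 u hu heu
    by_contra hu1
    apply hEH e he he1
    refine hfrob u (hPH (hAP hu)) hu1 (Subgroup.mem_inf.mpr ⟨(hEML he).2, ?_⟩)
    rw [Subgroup.mem_centralizer_iff]
    rintro _ rfl
    exact heu.symm
  have hE1 : E ≠ ⊥ := by
    intro h1
    rw [h1, Subgroup.card_bot] at hEcard
    exact hr.one_lt.ne hEcard
  have hAE : A ⊓ E = ⊥ := by
    rw [eq_bot_iff]
    rintro e ⟨heA, heE⟩
    rw [Subgroup.mem_bot]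
    by_contra he1
    exact hEH e heE he1 (hPH (hAP heA))
  have hEA : ∀ e ∈ E, ∀ u ∈ A, e * u * e⁻¹ ∈ A := by
    intro e he u hu
    refine ⟨hPconj e (hEML he) u (hAP hu), ?_⟩
    rw [conj_pow, hu.2, mul_one, mul_inv_cancel]
  have hK := h.M_eq
  have hcompl : IsComplIn (L ⊓ M) (sigmaCore M) M := hK ▸ h.compl
  have hAEle : A ⊔ E ≤ L ⊓ M := by
    rw [inf_comm]
    exact sup_le (hAP.trans (le_inf h.P_le (hPH.trans hHL))) hEML
  have hKn : ∀ a ∈ A ⊔ E, ∀ k ∈ sigmaCore M, a * k * a⁻¹ ∈ sigmaCore M := by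
    intro a ha k hk
    exact (Subgroup.mem_normalizer_iff.mp (hSn (hAEle ha).2) k).mp hk
  have hdisj : sigmaCore M ⊓ (A ⊔ E) = ⊥ := by
    rw [eq_bot_iff, ← hcompl.2.2.1]
    exact le_inf (inf_le_right.trans hAEle) inf_le_left
  have hKs : Group.IsSolvable (sigmaCore M) := by
    have : Group.IsNilpotent (fittingHallOf M) :=
      Cfsg.Agent.OddOrderLocal.FittingHall.fittingHallOf_isNilpotent M
    rw [← hK]; infer_instance
  have hcop : Nat.Coprime (Nat.card (sigmaCore M)) (Nat.card ↥(A ⊔ E)) :=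
    (coprime_compl hG hM hcompl).coprime_dvd_right (Subgroup.card_dvd_of_le hAEle)
  have hform := Cfsg.Agent.S1545.result A E (sigmaCore M) hA1 hE1 hAE hEA hEfpf hKn hdisj hKs hcop
  -- `C_K(A) = 1`
  have hpP : p ∣ Nat.card P := by
    rw [← h.x_order]; exact Subgroup.orderOf_dvd_natCard P h.x_mem
  have hpM : p ∣ Nat.card M := hpP.trans (Subgroup.card_dvd_of_le h.P_le)
  have hpML : p ∣ Nat.card ↥(L ⊓ M) :=
    hpP.trans (Subgroup.card_dvd_of_le (le_inf (hPH.trans hHL) h.P_le))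
  have hσ : p ∉ sigma M := by
    intro hs
    have h1 := (sigmaCore_hall hG hM).2.2 p hp hs
    have h2 := card_mul_relIndex hSM
    have h3 : p ∣ Nat.card (sigmaCore M) := by
      rw [← h2, hp.dvd_mul] at hpM
      exact hpM.resolve_right h1
    exact Nat.Prime.not_coprime_iff_dvd.mpr ⟨p, hp, h3, hpML⟩ (coprime_compl hG hM hcompl)
  have hCA := inf_centralizer_omega hG hM hκ hpM hσ hPM h.P_comm
  have hCAE : sigmaCore M ⊓ Subgroup.centralizer ((A ⊔ E : Subgroup G) : Set G) = ⊥ := by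
    rw [eq_bot_iff, ← hCA]
    exact inf_le_inf_left _ (Subgroup.centralizer_le (le_sup_left : A ≤ A ⊔ E))
  rw [hCAE, hCA, Subgroup.card_bot, one_pow, one_mul, mul_one, hEcard] at hform
  have hK1 : sigmaCore M ≠ ⊥ := by
    rw [← hK]; exact (Cfsg.Agent.S1355.result hG M hM).1
  have hCE : sigmaCore M ⊓ Subgroup.centralizer (E : Set G) ≠ ⊥ := by
    intro h1
    rw [h1, Subgroup.card_bot, one_pow] at hform
    exact hK1 (Subgroup.card_eq_one.mp hform)
  -- both `x` and `y` centralize a nonidentity element of `K`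
  obtain ⟨⟨v, hv⟩, hv1⟩ := Subgroup.ne_bot_iff_exists_ne_one.mp hCE
  have hv1' : v ≠ 1 := fun h => hv1 (Subtype.ext h)
  obtain ⟨hvK, hvE⟩ := Subgroup.mem_inf.mp hv
  obtain ⟨g, hgK, hgK', hxg⟩ := h.x_cent
  have hg1 : g ≠ 1 := by
    rintro rfl
    exact hgK' (Subgroup.one_mem _)
  have hdec := decomp_of_compl hκ hcompl
  have hab := Cfsg.Agent.S1359.result hG M hM ⊥ (L ⊓ M) hdec
  have hxmem : x ∈ Subgroup.closure (((L ⊓ M : Subgroup G) : Set G) ∩ sigmaHat M) := by
    refine Subgroup.subset_closure ⟨⟨hHL (hPH h.x_mem), h.P_le h.x_mem⟩, h.P_le h.x_mem, g, ?_, hg1, hxg⟩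
    rw [← hK]; exact hgK
  have hymem : y ∈ Subgroup.closure (((L ⊓ M : Subgroup G) : Set G) ∩ sigmaHat M) := by
    refine Subgroup.subset_closure ⟨⟨hyML.2, hyML.1⟩, hyML.1, v, hvK, hv1', ?_⟩
    exact Subgroup.mem_centralizer_iff.mp hvE y (Subgroup.mem_zpowers y)
  have hyx : y * x = x * y :=
    congrArg Subtype.val (hab.is_comm.comm (⟨y, hymem⟩ :
      Subgroup.closure (((L ⊓ M : Subgroup G) : Set G) ∩ sigmaHat M)) ⟨x, hxmem⟩)
  refine hx1 (hEfpf y (Subgroup.mem_zpowers y) ?_ x hxA hyx)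
  intro hy1
  rw [hy1, orderOf_one] at hyo
  exact hr.one_lt.ne hyo

end Cfsg.Agent.OddOrderCharacters.PF12.Local
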