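import Cfsg.Agent.OddOrderCharacters.PF12.LocalDefs
import Cfsg.Agent.OddOrderLocal.Rank
import Cfsg.Agent.OddOrderLocal.FittingHall

/-!
# Peterfalvi (12.8): a non-Frobenius maximal subgroup of type I gives a configuration (12.8)

* `zpowers_eq_of_rank_one` : in a finite group of `q`-rank at most one, two subgroups of order `q` of the
  same Sylow `q`-subgroup are equal;
* `frobF_of_rank` : a group of type F all of whose `q`-ranks, `q ∤ |M_F|`, are at most one is a Frobenius
  group with kernel `M_F`;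
* `exists_hyp128` : (12.8).
-/

set_option autoImplicit false

open Cfsg Cfsg.Agent.OddOrderCharacters.PFDefs Cfsg.Agent.OddOrderCharacters.PF12.Defs
  Cfsg.Agent.OddOrderCharacters.PF12.LocalDefs Cfsg.Agent.OddOrderLocal

namespace Cfsg.Agent.OddOrderCharacters.PF12.Witness

universe u

section general

variable {X : Type u} [Group X] [Finite X]

/-- In a finite group of `q`-rank at most one, the elements of order `q` of a Sylow `q`-subgroup generate
the same subgroup. -/
theorem zpowers_eq_of_rank_one {q : ℕ} [Fact q.Prime] (h : PRankLE q 1 X) (P : Sylow q X) {b c : X}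
    (hb : b ∈ (P : Subgroup X)) (hc : c ∈ (P : Subgroup X)) (hb' : orderOf b = q)
    (hc' : orderOf c = q) : Subgroup.zpowers b = Subgroup.zpowers c := by
  -- a central element of order `q`
  have hq : q.Prime := Fact.out
  have hb1 : b ≠ 1 := by
    intro h1
    rw [h1, orderOf_one] at hb'
    exact hq.one_lt.ne hb'
  have : Nontrivial (P : Subgroup X) := ⟨⟨⟨b, hb⟩, 1, fun h1 => hb1 (congrArg Subtype.val h1)⟩⟩
  have hZ := P.isPGroup'.center_nontrivial
  have hZq : q ∣ Nat.card (Subgroup.center (P : Subgroup X)) := by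
    have := (P.isPGroup'.to_subgroup (Subgroup.center (P : Subgroup X))).card_eq_or_dvd
    rcases this with h1 | h1
    · rw [Subgroup.card_eq_one] at h1
      exact absurd h1 ((Subgroup.nontrivial_iff_ne_bot _).mp hZ)
    · exact h1
  obtain ⟨z, hz⟩ := exists_prime_orderOf_dvd_card' q hZq
  set w : X := ((z : (P : Subgroup X)) : X) with hw
  have hw' : orderOf w = q := by
    rw [hw, Subgroup.orderOf_coe, Subgroup.orderOf_coe, hz]
  have hwc : ∀ a ∈ (P : Subgroup X), a * w = w * a := by
    intro a ha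
    have h1 := Subgroup.mem_center_iff.mp z.2 ⟨a, ha⟩
    exact congrArg Subtype.val h1
  -- every element of order `q` of `P` generates `⟨w⟩`
  have key : ∀ a ∈ (P : Subgroup X), orderOf a = q → Subgroup.zpowers a = Subgroup.zpowers w := by
    intro a ha ha'
    have hcard : ∀ d : X, orderOf d = q → Nat.card (Subgroup.zpowers d) = q := fun d hd => by
      rw [Nat.card_zpowers, hd]
    have hel : IsElementaryAbelian q (Subgroup.zpowers a ⊔ Subgroup.zpowers w) := by
      refine Rank.elemAb_sup (Rank.elemAb_zpowers ?_) (Rank.elemAb_zpowers ?_) ?_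
      · rw [← ha', pow_orderOf_eq_one]
      · rw [← hw', pow_orderOf_eq_one]
      · rintro _ ⟨m, rfl⟩ _ ⟨n, rfl⟩
        exact (show Commute a w from hwc a ha).zpow_zpow m n
    have hle := Rank.pRankLE_def.mp h _ hel
    rw [pow_one] at hle
    have h1 : Subgroup.zpowers a = Subgroup.zpowers a ⊔ Subgroup.zpowers w :=
      Subgroup.eq_of_le_of_card_ge le_sup_left (by rw [hcard a ha']; exact hle)
    have h2 : Subgroup.zpowers w = Subgroup.zpowers a ⊔ Subgroup.zpowers w :=
      Subgroup.eq_of_le_of_card_ge le_sup_right (by rw [hcard w hw']; exact hle)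
    rw [h1, ← h2]
  rw [key b hb hb', key c hc hc']

/-- The group version of `frobF_of_rank`. -/
theorem centralizer_le_of_rank (hX : IsOfTypeF X)
    (h : ∀ q : ℕ, q.Prime → ¬ q ∣ Nat.card (fittingHall X) → PRankLE q 1 X) {x : X}
    (hx : x ∈ fittingHall X) (hx1 : x ≠ 1) {a : X} (ha : a * x = x * a) : a ∈ fittingHall X := by
  obtain ⟨-, -, -, -, U, -, hU, -, U₀, hU₀, hexp, hfree⟩ := hX
  by_contra haK
  -- the image of `a` modulo `K` has an order divisible by a prime `q`
  set K := fittingHall X with hK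
  have hne : (QuotientGroup.mk' K a) ≠ 1 := by
    intro h1
    exact haK ((QuotientGroup.eq_one_iff a).mp h1)
  have hord : orderOf (QuotientGroup.mk' K a) ≠ 1 := by
    rwa [Ne, orderOf_eq_one_iff]
  obtain ⟨q, hq, hqd⟩ := Nat.exists_prime_and_dvd hord
  have : Fact q.Prime := ⟨hq⟩
  have hqa : q ∣ orderOf a := hqd.trans (orderOf_map_dvd _ a)
  have hqi : q ∣ K.index := hqd.trans (by
    rw [Subgroup.index_eq_card]
    exact orderOf_dvd_natCard _)
  have hqK : ¬ q ∣ Nat.card K := by
    intro h1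
    have h2 := FittingHall.fittingHall_coprime (G := X)
    exact hq.one_lt.ne' (Nat.eq_one_of_dvd_coprimes h2 h1 hqi)
  have hrank := h q hq hqK
  -- a power of `a` of order `q`
  set b : X := a ^ (orderOf a / q) with hb
  have hb' : orderOf b = q := orderOf_pow_orderOf_div (orderOf_pos a).ne' hqa
  have hbx : Commute b x := (show Commute a x from ha).pow_left _
  -- an element of order `q` of `U₀`
  have hqU : q ∣ Nat.card U := by
    rw [← hU.symm.index_eq_card] at *
    exact hqi
  have hqU₀ : q ∣ Nat.card U₀ := by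
    have h1 : q ∣ Monoid.exponent U := by
      obtain ⟨c, hc⟩ := exists_prime_orderOf_dvd_card' q hqU
      rw [← hc]
      exact Monoid.order_dvd_exponent c
    rw [← hexp] at h1
    exact h1.trans Group.exponent_dvd_nat_card
  obtain ⟨c', hc'⟩ := exists_prime_orderOf_dvd_card' q hqU₀
  set c : X := (c' : X) with hc
  have hc0 : orderOf c = q := by rw [hc, Subgroup.orderOf_coe, hc']
  -- Sylow
  have hbP : IsPGroup q (Subgroup.zpowers b) := IsPGroup.of_card (n := 1) (by
    rw [Nat.card_zpowers, hb', pow_one])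
  have hcP : IsPGroup q (Subgroup.zpowers c) := IsPGroup.of_card (n := 1) (by
    rw [Nat.card_zpowers, hc0, pow_one])
  obtain ⟨P, hP⟩ := hbP.exists_le_sylow
  obtain ⟨Q, hQ⟩ := hcP.exists_le_sylow
  obtain ⟨g, hg⟩ := MulAction.exists_smul_eq X Q P
  have hgc : g * c * g⁻¹ ∈ (P : Subgroup X) := by
    rw [← hg, Sylow.coe_subgroup_smul]
    exact Subgroup.smul_mem_pointwise_smul c (MulAut.conj g) _ (hQ (Subgroup.mem_zpowers c))
  have hgc' : orderOf (g * c * g⁻¹) = q := by
    rw [← hc0]
    exact orderOf_injective (MulAut.conj g).toMonoidHom (MulAut.conj g).injective c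
  have heq := zpowers_eq_of_rank_one hrank P (hP (Subgroup.mem_zpowers b)) hgc hb' hgc'
  have hmem : b ∈ Subgroup.zpowers (g * c * g⁻¹) := by
    rw [← heq]
    exact Subgroup.mem_zpowers b
  obtain ⟨k, hk⟩ := hmem
  have hk' : b = g * c ^ k * g⁻¹ := by
    rw [← hk]
    exact conj_zpow
  -- `c ^ k ∈ U₀` commutes with `g⁻¹ x g ∈ K`
  have h1 : c ^ k ≠ 1 := by
    intro h1
    rw [h1, mul_one, mul_inv_cancel] at hk'
    rw [hk', orderOf_one] at hb'
    exact hq.one_lt.ne hb'
  have h2 : g⁻¹ * x * g ∈ K := by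
    have := (fittingHall_normal X).conj_mem x hx g⁻¹
    simpa using this
  have h3 : c ^ k * (g⁻¹ * x * g) = g⁻¹ * x * g * c ^ k := by
    have h4 : b * x = x * b := hbx
    have h5 : c ^ k = g⁻¹ * b * g := by
      rw [hk']; group
    rw [h5]
    calc g⁻¹ * b * g * (g⁻¹ * x * g) = g⁻¹ * (b * x) * g := by group
      _ = g⁻¹ * (x * b) * g := by rw [h4]
      _ = g⁻¹ * x * g * (g⁻¹ * b * g) := by group
  have h6 := hfree (c ^ k) (zpow_mem (by rw [hc]; exact c'.2) k) h1 _ h2 h3
  apply hx1
  have h7 : x = g * (g⁻¹ * x * g) * g⁻¹ := by group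
  rw [h7, h6, mul_one, mul_inv_cancel]

end general

variable {G : Type u} [Group G] [Finite G]

/-- A type F subgroup all of whose `q`-ranks for the primes `q ∤ |M_F|` are at most one is a Frobenius
group with kernel `M_F`. -/
theorem frobF_of_rank {M : Subgroup G} (hM : IsOfTypeF ↥M)
    (h : ∀ q : ℕ, q.Prime → ¬ q ∣ Nat.card (fittingHallOf M) → PRankLE q 1 ↥M) : FrobF M := by
  intro x hx hx1 a ha
  obtain ⟨haM, hax⟩ := Subgroup.mem_inf.mp ha
  obtain ⟨x', hx', rfl⟩ := hx
  rw [Subgroup.mem_centralizer_singleton_iff] at hax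
  refine ⟨⟨a, haM⟩, ?_, rfl⟩
  refine centralizer_le_of_rank hM ?_ hx' (fun h1 => hx1 (by rw [h1]; rfl)) ?_
  · intro q hq hqK
    refine h q hq ?_
    rw [FittingHall.card_fittingHallOf]
    exact hqK
  · exact Subtype.ext hax

/-- (12.8) -/
theorem exists_hyp128 {M : Subgroup G} (hM : IsCoatom M) (hI : IsOfTypeI' M) (hnf : ¬ FrobF M) :
    ∃ (p : ℕ) (N : Subgroup G), Hyp128 p N := by
  classical
  have hex : ∃ p : ℕ, p.Prime ∧ ∃ N : Subgroup G, IsCoatom N ∧ IsOfTypeI' N ∧
      ¬ p ∣ Nat.card (fittingHallOf N) ∧ ¬ PRankLE p 1 ↥N := by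
    by_contra hcon
    refine hnf (frobF_of_rank hI.1 ?_)
    intro q hq hqK
    by_contra hr
    exact hcon ⟨q, hq, M, hM, hI, hqK, hr⟩
  obtain ⟨hp, N, hN, hNI, hd, hr⟩ := Nat.find_spec hex
  refine ⟨Nat.find hex, N, hp, hN, hNI, hd, hr, ?_⟩
  intro q N' hq hN' hI' hd' hr'
  exact Nat.find_min' hex ⟨hq, N', hN', hI', hd', hr'⟩

end Cfsg.Agent.OddOrderCharacters.PF12.Witness
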