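import Cfsg.Agent.OddOrderCharacters.PF12.LocalDefs
import Cfsg.Agent.OddOrderCharacters.PF12.InstBasic
import Cfsg.Agent.OddOrderLocal.FittingHall
import Cfsg.Agent.OddOrderLocal.FreeAction
import Cfsg.Agent.OddOrderLocal.NilpotentHall
import Cfsg.Agent.S1545

/-!
# Peterfalvi (12.11): `M ∩ L ≤ L_F`

The configuration (12.9) with `L` a Frobenius group with kernel `L_F`.
-/

set_option autoImplicit false

open Cfsg Cfsg.Agent.OddOrderCharacters.PFDefs Cfsg.Agent.OddOrderCharacters.PF12.Defs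
open Cfsg.Agent.OddOrderCharacters.PF12.LocalDefs
open Cfsg.Agent.OddOrderLocal

namespace Cfsg.Agent.OddOrderCharacters.PF12.Inf

universe u

variable {G : Type u} [Group G]

section general

variable [Finite G]

theorem coprime_card_index (L : Subgroup G) :
    (Nat.card (fittingHallOf L)).Coprime (fittingHall L).index := by
  rw [FittingHall.card_fittingHallOf]
  exact FittingHall.fittingHall_coprime

/-- A subgroup of `L` not contained in `L_F` contains an element of prime order `q ∤ |L_F|`. -/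
theorem exists_prime_of_not_le {L D : Subgroup G} (hDL : D ≤ L) (hD : ¬ D ≤ fittingHallOf L) :
    ∃ q : ℕ, q.Prime ∧ ¬ q ∣ Nat.card (fittingHallOf L) ∧ ∃ w ∈ D, orderOf w = q := by
  have h1 : ¬ (Nat.card (D.subgroupOf L)).Coprime (fittingHall L).index := by
    intro h
    apply hD
    intro d hd
    have h2 := FittingHall.le_fittingHall_of_coprime (D.subgroupOf L) h
      (show (⟨d, hDL hd⟩ : L) ∈ D.subgroupOf L from Subgroup.mem_subgroupOf.2 hd)
    exact mem_fittingHallOf.2 h2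
  obtain ⟨q, hq, hq1, hq2⟩ := Nat.Prime.not_coprime_iff_dvd.1 h1
  have : Fact q.Prime := ⟨hq⟩
  refine ⟨q, hq, ?_, ?_⟩
  · intro h
    exact (Nat.Prime.not_coprime_iff_dvd.2 ⟨q, hq, h, hq2⟩) (coprime_card_index L)
  · obtain ⟨w, hw⟩ := exists_prime_orderOf_dvd_card' (G := D.subgroupOf L) q hq1
    refine ⟨((w : L) : G), Subgroup.mem_subgroupOf.1 w.2, ?_⟩
    rw [Subgroup.orderOf_coe, Subgroup.orderOf_coe, hw]

theorem le_fittingHallOf_of_isPGroup {L P : Subgroup G} {p : ℕ} (hp : p.Prime) (hP : IsPGroup p P)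
    (hPL : P ≤ L) (hd : p ∣ Nat.card (fittingHallOf L)) : P ≤ fittingHallOf L := by
  have : Fact p.Prime := ⟨hp⟩
  intro x hx
  have h1 : (Nat.card (P.subgroupOf L)).Coprime (fittingHall L).index := by
    obtain ⟨n, hn⟩ := IsPGroup.iff_card.1 hP
    have h2 : Nat.card (P.subgroupOf L) = p ^ n := by
      rw [← hn]
      exact Nat.card_congr (Subgroup.subgroupOfEquivOfLe hPL).toEquiv
    rw [h2]
    refine Nat.Coprime.pow_left n ?_
    exact Nat.Coprime.coprime_dvd_left hd (coprime_card_index L)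
  have h2 := FittingHall.le_fittingHall_of_coprime (P.subgroupOf L) h1
    (show (⟨x, hPL hx⟩ : L) ∈ P.subgroupOf L from Subgroup.mem_subgroupOf.2 hx)
  exact mem_fittingHallOf.2 h2

theorem mem_fittingHallOf_of_orderOf {L : Subgroup G} {q : ℕ} (hq : q.Prime) {w : G} (hw : w ∈ L)
    (ho : orderOf w = q) (hd : q ∣ Nat.card (fittingHallOf L)) : w ∈ fittingHallOf L := by
  have : Fact q.Prime := ⟨hq⟩
  have h1 : IsPGroup q (Subgroup.zpowers w) := by
    refine IsPGroup.of_card (n := 1) ?_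
    rw [Nat.card_zpowers, ho, pow_one]
  exact le_fittingHallOf_of_isPGroup hq h1 (Subgroup.zpowers_le.2 hw) hd
    (Subgroup.mem_zpowers w)

end general

/-- A noncyclic elementary abelian group `A` of order `p ^ 2` contained in the Frobenius group `L` with
kernel `L_F` lies in `L_F`. -/
theorem dvd_card_of_frobF [Finite G] (hodd : Odd (Nat.card G)) {L A : Subgroup G} (hL : FrobF L)
    (hne : fittingHallOf L ≠ ⊥) (hAL : A ≤ L) {p : ℕ} (hp : p.Prime) (hcard : Nat.card A = p ^ 2)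
    (hexp : ∀ a ∈ A, a ^ p = 1) : p ∣ Nat.card (fittingHallOf L) := by
  have : Fact p.Prime := ⟨hp⟩
  by_contra hpd
  have hfree : ∀ d ∈ A, d ≠ 1 → ∀ z ∈ fittingHallOf L, z ≠ 1 → d * z ≠ z * d := by
    intro d hd hd1 z hz hz1 hc
    have h1 : d ∈ fittingHallOf L := by
      exact hL z hz hz1
        (Subgroup.mem_inf.2 ⟨hAL hd, Subgroup.mem_centralizer_singleton_iff.2 hc⟩)
    have h2 : orderOf d = p := orderOf_eq_prime (hexp d hd) hd1
    have h3 : orderOf d ∣ Nat.card (fittingHallOf L) := by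
      have := orderOf_dvd_natCard (⟨d, h1⟩ : fittingHallOf L)
      rwa [Subgroup.orderOf_mk] at this
    rw [h2] at h3
    exact hpd h3
  have hZ : IsZGroup A := FreeAction.isZGroup_of_free hne (FittingHall.fittingHallOf_isNilpotent L)
    (hAL.trans (TypeSetsBasic.le_normalizer_fittingHallOf L)) hfree
    (hodd.of_dvd_nat (Subgroup.card_subgroup_dvd_card A))
  have hAp : IsPGroup p A := IsPGroup.of_card hcard
  have hcyc : IsCyclic A := by
    have h1 : IsPGroup p (⊤ : Subgroup A) := hAp.of_equiv Subgroup.topEquiv.symm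
    have h2 : IsCyclic (⊤ : Subgroup A) := h1.isCyclic_of_isZGroup
    exact isCyclic_of_surjective (Subgroup.topEquiv : (⊤ : Subgroup A) ≃* A)
      (Subgroup.topEquiv : (⊤ : Subgroup A) ≃* A).surjective
  obtain ⟨g, hg⟩ := hcyc.exists_generator
  have h1 : orderOf g = Nat.card A := orderOf_eq_card_of_forall_mem_zpowers hg
  have h2 : orderOf g ∣ p := orderOf_dvd_of_pow_eq_one (Subtype.ext (hexp g g.2))
  rw [h1, hcard] at h2
  have h3 := Nat.le_of_dvd hp.pos h2
  have h4 : p ^ 1 < p ^ 2 := Nat.pow_lt_pow_right hp.one_lt (by norm_num)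
  rw [pow_one] at h4
  omega

/-- `T ≤ M` with `T ∩ M_F = 1` has order prime to `|M_F|`. -/
theorem coprime_card_of_inf_eq_bot [Finite G] {M T : Subgroup G} (hT : T ≤ M)
    (h : fittingHallOf M ⊓ T = ⊥) : (Nat.card (fittingHallOf M)).Coprime (Nat.card T) := by
  have h1 : (fittingHall M).relIndex (T.subgroupOf M) = Nat.card T := by
    have h2 : fittingHall M ⊓ T.subgroupOf M = ⊥ := by
      rw [eq_bot_iff]
      intro z hz
      have h3 : (z : G) ∈ fittingHallOf M ⊓ T :=
        ⟨mem_fittingHallOf.2 hz.1, Subgroup.mem_subgroupOf.1 hz.2⟩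
      rw [h, Subgroup.mem_bot] at h3
      exact Subgroup.mem_bot.2 (Subtype.ext h3)
    rw [← Subgroup.inf_relIndex_right, h2, Subgroup.relIndex_bot_left]
    exact Nat.card_congr (Subgroup.subgroupOfEquivOfLe hT).toEquiv
  rw [← h1]
  exact Nat.Coprime.coprime_dvd_right (Subgroup.relIndex_dvd_index_of_normal _ _)
    (coprime_card_index M)

/-- (12.11) -/
theorem inf_le_fittingHallOf [Finite G] (hodd : Odd (Nat.card G)) {p : ℕ} {M L P₀ A : Subgroup G}
    {x y : G} (h : Hyp129 p M L P₀ A x y) (hne : fittingHallOf L ≠ ⊥) (hL : FrobF L) :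
    M ⊓ L ≤ fittingHallOf L := by
  have hp := h.prime
  have : Fact p.Prime := ⟨hp⟩
  by_contra hcon
  have hP₀L : P₀ ≤ L := h.P₀_le_L.trans (FitAux.sigmaCore_le L)
  have hAL : A ≤ L := h.A_le.trans hP₀L
  have hAM : A ≤ M := h.A_le.trans h.P₀_le
  have hP₀p : IsPGroup p P₀ := by
    obtain ⟨P, hP⟩ := h.P₀_sylow
    rw [hP]
    exact P.isPGroup'.map M.subtype
  have hexp : ∀ a ∈ A, a ^ p = 1 := fun a ha => (h.mem_A a (h.A_le ha)).2 ha
  have hpL : p ∣ Nat.card (fittingHallOf L) :=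
    dvd_card_of_frobF hodd hL hne hAL hp h.card_A hexp
  have hP₀H : P₀ ≤ fittingHallOf L := le_fittingHallOf_of_isPGroup hp hP₀p hP₀L hpL
  -- an element `w` of `M ∩ L` of prime order `q ∤ |L_F|`
  obtain ⟨q, hq, hqL, w, hw, hwq⟩ := exists_prime_of_not_le inf_le_right hcon
  have : Fact q.Prime := ⟨hq⟩
  have hwM : w ∈ M := hw.1
  have hwL : w ∈ L := hw.2
  have hwH : w ∉ fittingHallOf L := by
    intro hwH
    apply hqL
    have := orderOf_dvd_natCard (⟨w, hwH⟩ : fittingHallOf L)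
    rwa [Subgroup.orderOf_mk, hwq] at this
  -- `A` is normalized by `M ∩ L`
  have hnorm : ∀ d ∈ M ⊓ L, ∀ a ∈ A, d * a * d⁻¹ ∈ A := by
    intro d hd a ha
    have h1 : d * a * d⁻¹ ∈ P₀ := by
      have hF : Group.IsNilpotent ↥(fittingHallOf L ⊓ M : Subgroup G) := by
        have h2 := FittingHall.fittingHallOf_isNilpotent L
        exact FitAux.isNilpotent_of_le inf_le_left h2
      refine NilpotentHall.mem_of_not_dvd_relIndex (p := p) (F := fittingHallOf L ⊓ M) (K := P₀) hF
        (le_inf hP₀H h.P₀_le) ?_ ?_ (k := 1) ?_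
      · intro hdvd
        obtain ⟨P, hP⟩ := h.P₀_sylow
        have h3 : P₀.relIndex M = (P : Subgroup M).index := by
          rw [hP, Subgroup.relIndex, FittingHall.subgroupOf_map_subtype_self]
        have h4 := Subgroup.relIndex_mul_relIndex P₀ (fittingHallOf L ⊓ M) M
          (le_inf hP₀H h.P₀_le) inf_le_right
        apply P.not_dvd_index
        rw [← h3, ← h4]
        exact dvd_mul_of_dvd_left hdvd _
      · exact ⟨TypeSetsBasic.fittingHallOf_conj_mem hd.2 (hP₀H (h.A_le ha)),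
          M.mul_mem (M.mul_mem hd.1 (hAM ha)) (M.inv_mem hd.1)⟩
      · rw [pow_one, conj_pow, hexp a ha, mul_one, mul_inv_cancel]
    refine (h.mem_A _ h1).1 ?_
    rw [conj_pow, hexp a ha, mul_one, mul_inv_cancel]
  have hEL : Subgroup.zpowers w ≤ M ⊓ L := Subgroup.zpowers_le.2 hw
  have hAE : A ⊔ Subgroup.zpowers w ≤ M ⊓ L := sup_le (le_inf hAM hAL) hEL
  have hA1 : A ≠ ⊥ := by
    intro h1
    have h2 := h.card_A
    rw [h1, Subgroup.card_bot] at h2
    have := Nat.one_lt_pow (n := 2) (by norm_num) hp.one_lt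
    omega
  have hKL : fittingHallOf M ⊓ (A ⊔ Subgroup.zpowers w) = ⊥ := by
    rw [eq_bot_iff, ← h.inf_K_L]
    exact inf_le_inf le_rfl (hAE.trans inf_le_right)
  have hcard := Cfsg.Agent.S1545.result A (Subgroup.zpowers w) (fittingHallOf M) hA1
    (by
      rw [Ne, Subgroup.zpowers_eq_bot]
      rintro rfl
      rw [orderOf_one] at hwq
      exact hq.one_lt.ne hwq)
    (by
      rw [eq_bot_iff]
      rintro a ⟨ha, hb⟩
      have h1 : orderOf a ∣ p := orderOf_dvd_of_pow_eq_one (hexp a ha)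
      have h2 : orderOf a ∣ q := by
        rw [← hwq]
        exact orderOf_dvd_of_mem_zpowers hb
      rw [Subgroup.mem_bot, ← orderOf_eq_one_iff]
      rcases (Nat.dvd_prime hp).1 h1 with h3 | h3
      · exact h3
      · rcases (Nat.dvd_prime hq).1 h2 with h4 | h4
        · exact h4
        · exfalso
          apply hqL
          rw [← h4, h3]
          exact hpL)
    (fun e he a ha => hnorm e (hEL he) a ha)
    (fun e he he1 a ha hc => by
      by_contra ha1
      apply hqL
      have h1 : e ∈ fittingHallOf L := by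
        exact hL a (hP₀H (h.A_le ha)) ha1
          (Subgroup.mem_inf.2 ⟨(hEL he).2, Subgroup.mem_centralizer_singleton_iff.2 hc⟩)
      have h2 : orderOf e ∣ q := by
        rw [← hwq]
        exact orderOf_dvd_of_mem_zpowers he
      have h3 : orderOf e = q := ((Nat.dvd_prime hq).1 h2).resolve_left
        (fun h4 => he1 (orderOf_eq_one_iff.1 h4))
      have h4 := orderOf_dvd_natCard (⟨e, h1⟩ : fittingHallOf L)
      rwa [Subgroup.orderOf_mk, h3] at h4)
    (fun g hg k hk => TypeSetsBasic.fittingHallOf_conj_mem (hAE hg).1 hk)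
    hKL
    (by
      have := FittingHall.fittingHallOf_isNilpotent M
      infer_instance)
    (coprime_card_of_inf_eq_bot (hAE.trans inf_le_left) hKL)
  have hKA : fittingHallOf M ⊓ Subgroup.centralizer ((A ⊔ Subgroup.zpowers w : Subgroup G) : Set G) = ⊥ := by
    rw [eq_bot_iff, ← h.inf_K_A]
    exact inf_le_inf le_rfl (Subgroup.centralizer_le (show (A : Set G) ⊆ _ from
      (le_sup_left : A ≤ A ⊔ Subgroup.zpowers w)))
  rw [hKA, h.inf_K_A, Subgroup.card_bot, one_pow, one_mul, mul_one] at hcard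
  -- some `k ∈ K`, `k ≠ 1` commutes with `w`
  obtain ⟨k, hk, hk1, hkw⟩ : ∃ k ∈ fittingHallOf M, k ≠ 1 ∧ w * k = k * w := by
    by_contra hno
    push Not at hno
    have h1 : fittingHallOf M ⊓ Subgroup.centralizer (Subgroup.zpowers w : Set G) = ⊥ := by
      rw [eq_bot_iff]
      rintro k ⟨hk, hkc⟩
      by_contra hk1
      refine hno k hk (fun h' => hk1 (Subgroup.mem_bot.2 h')) ?_
      exact Subgroup.mem_centralizer_iff.1 hkc w (Subgroup.mem_zpowers w)
    rw [h1, Subgroup.card_bot, one_pow] at hcard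
    have h2 := Subgroup.card_eq_one.1 hcard
    have h3 := h.y_mem
    rw [h2, Subgroup.mem_bot] at h3
    exact h.y_notMem (h3 ▸ Subgroup.one_mem _)
  have hy1 : y ≠ 1 := fun h3 => h.y_notMem (h3 ▸ Subgroup.one_mem _)
  obtain ⟨N, hN⟩ := InstBasic.exists_typeFHyp h.typeI.1
  have hxM : x ∈ M := h.P₀_le h.x_mem
  have key : ∀ (z : G) (hz : z ∈ M), ∀ k ∈ fittingHallOf M, k ≠ 1 → z * k = k * z →
      (⟨z, hz⟩ : M) ∈ N := by
    intro z hz k hk hk1 hzk
    by_contra hzN
    have hkM : k ∈ M := TypeSetsBasic.fittingHallOf_le M hk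
    have h1 := hN.cent ⟨z, hz⟩ hzN ⟨k, hkM⟩ (mem_fittingHallOf.1 hk) (Subtype.ext hzk)
    exact hk1 (congrArg Subtype.val h1)
  have h1 := hN.comm _ (key w hwM k hk hk1 hkw) _ (key x hxM y h.y_mem hy1 h.comm)
  have h2 : w * x * w⁻¹ * x⁻¹ ∈ fittingHallOf M := mem_fittingHallOf.2 h1
  have hxL : x ∈ L := hP₀L h.x_mem
  have h3 : w * x * w⁻¹ * x⁻¹ ∈ fittingHallOf M ⊓ L :=
    ⟨h2, L.mul_mem (L.mul_mem (L.mul_mem hwL hxL) (L.inv_mem hwL)) (L.inv_mem hxL)⟩
  rw [h.inf_K_L, Subgroup.mem_bot] at h3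
  have h4 : w * x = x * w := by
    have := mul_inv_eq_one.1 h3
    exact mul_inv_eq_iff_eq_mul.1 this
  have hx1 : x ≠ 1 := by
    rintro hx1
    have := h.orderOf_x
    rw [hx1, orderOf_one] at this
    exact hp.one_lt.ne this
  apply hwH
  exact hL x (hP₀H h.x_mem) hx1
    (Subgroup.mem_inf.2 ⟨hwL, Subgroup.mem_centralizer_singleton_iff.2 h4⟩)

end Cfsg.Agent.OddOrderCharacters.PF12.Inf
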