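import Mathlib
import Cfsg.Prelude.Def_OddOrderLocal
import Cfsg.Agent.S1351
import Cfsg.Agent.S1352
import Cfsg.Agent.S1381
import Cfsg.Agent.S1382
import Cfsg.Agent.S1383

/-!
# A maximal subgroup not of type P has `κ(M) = ∅`
-/

set_option autoImplicit false

open Cfsg

namespace Cfsg.Agent.OddOrderCharacters.PF12.Kappa

universe u

variable {G : Type u} [Group G] [Finite G]

/-- `κ(M) = ∅` for a maximal subgroup not of type P. -/
theorem kappa_eq_empty (hG : IsMinSimpleOddOrder G) {M : Subgroup G} (hM : IsCoatom M)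
    (h : ¬ IsOfTypeP M) : kappa M = ∅ := by
  obtain ⟨⟨K, hK⟩, hc⟩ := Cfsg.Agent.S1351.result hG M hM
  obtain ⟨⟨U, hU⟩, -⟩ := Cfsg.Agent.S1352.result hG M hM K (hc K hK) hK
  have hK1 : K = ⊥ := by
    by_contra hK1
    apply h
    by_cases hU1 : U = ⊥
    · by_cases hF : fittingHallOf M = sigmaCore M
      · obtain ⟨W₁, U', W₂, hP, -⟩ := (Cfsg.Agent.S1383.result hG M hM K U hU).2 ⟨hK1, hU1, hF⟩
        exact ⟨W₁, U', W₂, hP⟩
      · rcases (Cfsg.Agent.S1382.result hG M hM K U hU).2 ⟨hK1, hU1, hF⟩ with h3 | h4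
        · obtain ⟨W₁, U', W₂, hP, -⟩ := h3
          exact ⟨W₁, U', W₂, hP⟩
        · obtain ⟨W₁, U', W₂, hP, -⟩ := h4
          exact ⟨W₁, U', W₂, hP⟩
    · obtain ⟨W₁, U', W₂, hP, -⟩ := (Cfsg.Agent.S1381.result hG M hM K U hU).2 ⟨hK1, hU1⟩
      exact ⟨W₁, U', W₂, hP⟩
  subst hK1
  rw [Set.eq_empty_iff_forall_notMem]
  intro p hp
  refine hK.2.2 p hp.1 hp ?_
  rw [Subgroup.relIndex_bot_left]
  exact hp.2.1

end Cfsg.Agent.OddOrderCharacters.PF12.Kappa
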