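import Cfsg.Agent.OddOrderCharacters.NotAllTypeI
import Cfsg.Agent.OddOrderCharacters.WeakTypes
import Cfsg.Agent.OddOrderCharacters.PF8.TypeOne
import Cfsg.Agent.OddOrderLocal.W.S1380w
import Cfsg.Agent.OddOrderLocal.W.S1391w

/-!
# Peterfalvi (12.17): not all maximal subgroups are of Type I

`not_all_typeI'` and `exists_typeP`, from (12.7) (= S1540 for weak Type I) as an explicit hypothesis.
-/

set_option autoImplicit false
open Cfsg Cfsg.Agent.OddOrderCharacters.PFDefs Cfsg.Agent.OddOrderCharacters.WeakTypes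
open Cfsg.Agent.OddOrderLocal.W

namespace Cfsg.Agent.OddOrderCharacters.PF12.NoTypeIOnly

/-- Peterfalvi (12.17): not all maximal subgroups are of (weak) Type I. -/
theorem not_all_typeI' {G : Type*} [Group G] [Finite G] (hG : IsMinSimpleOddOrder G)
    (h1540 : ∀ M : Subgroup G, IsCoatom M → IsOfTypeI' M → ∀ x ∈ fittingHallOf M, x ≠ 1 →
      M ⊓ Subgroup.centralizer ({x} : Set G) ≤ fittingHallOf M) :
    ∃ M : Subgroup G, IsCoatom M ∧ ¬ IsOfTypeI' M := by
  by_contra hcon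
  have hI : ∀ M : Subgroup G, IsCoatom M → IsOfTypeI' M := fun M hM => by
    by_contra h; exact hcon ⟨M, hM, h⟩
  have hfrob : ∀ M : Subgroup G, IsCoatom M → ∀ x ∈ fittingHallOf M, x ≠ 1 →
      M ⊓ Subgroup.centralizer ({x} : Set G) ≤ fittingHallOf M :=
    fun M hM => h1540 M hM (hI M hM)
  have hle : ∀ M : Subgroup G, fittingHallOf M ≤ M := fun M => Subgroup.map_subtype_le _
  have hmem : ∀ M : Subgroup G, IsCoatom M → ∀ y ∈ fittingHallOf M, y ≠ 1 → y ∈ typeA' M := by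
    intro M hM y hy hy1
    rw [mem_typeA'_of_not_P (not_isOfTypeP_of_isOfTypeI' (hI M hM))]
    exact ⟨hle M hy, hy1, y, hy, hy1, rfl⟩
  refine Cfsg.Agent.OddOrderCharacters.NotAllTypeI.core hG
    (fun M hM => (S1380w.result' hG M hM).2 (hI M hM)) hfrob ?_ ?_
  · intro M hM x hx hx1
    by_contra hn
    have hxA : x ∈ typeA' M := hmem M hM x hx hx1
    obtain ⟨-, h2, h3⟩ := S1391w.result' hG M hM (typeA' M) (Or.inl rfl)
    obtain ⟨-, L, ⟨hL, hxL⟩, -⟩ := h2 x hxA hn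
    obtain ⟨-, -, -, -, ⟨h4, h5⟩, -⟩ := h3 x hxA hn L hL hxL
    apply h5
    rw [mem_typeA'_of_not_P (not_isOfTypeP_of_isOfTypeI' (hI L hL))] at h4
    obtain ⟨hxL, -, y, hy, hy1, hxy⟩ := h4
    have hxy' : x ∈ Subgroup.centralizer ({y} : Set G) := by
      rw [Subgroup.mem_centralizer_iff]
      intro z hz
      rw [Set.mem_singleton_iff] at hz
      subst hz
      exact hxy.symm
    have h6 : x ∈ fittingHallOf L := hfrob L hL y hy hy1 (Subgroup.mem_inf.2 ⟨hxL, hxy'⟩)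
    refine ⟨?_, hx1⟩
    rw [typeCore_of_I' (hI L hL)]
    exact h6
  · intro M hM x hx hx1 g hgx
    have hgx1 : g * x * g⁻¹ ≠ 1 := by
      intro h
      apply hx1
      exact conj_eq_one_iff.1 h
    exact (S1391w.result' hG M hM (typeA' M) (Or.inl rfl)).1 x (hmem M hM x hx hx1) g
      (hmem M hM _ hgx hgx1)

/-- Peterfalvi (12.17): some maximal subgroup is of type P. -/
theorem exists_typeP {G : Type*} [Group G] [Finite G] (hG : IsMinSimpleOddOrder G)
    (h1540 : ∀ M : Subgroup G, IsCoatom M → IsOfTypeI' M → ∀ x ∈ fittingHallOf M, x ≠ 1 →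
      M ⊓ Subgroup.centralizer ({x} : Set G) ≤ fittingHallOf M) :
    ∃ M : Subgroup G, IsCoatom M ∧ IsOfTypeP M := by
  obtain ⟨M, hM, h⟩ := not_all_typeI' hG h1540
  refine ⟨M, hM, ?_⟩
  by_contra hP
  exact h ((Cfsg.Agent.OddOrderCharacters.PF8.typeI'_iff hG hM).2 hP)

end Cfsg.Agent.OddOrderCharacters.PF12.NoTypeIOnly
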